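import Cfsg.Agent.PearlMC.Basic

/-!
A self-centralizing subgroup of order `p ^ 2`, or non-abelian of order `p ^ 3`, of a finite p-group
contains an element with small centralizer.
-/

set_option autoImplicit false
set_option linter.style.haveILetI false

namespace CfsgLib.PearlMC

open Subgroup
open scoped commutatorElement

universe u

variable {G : Type u} [Group G] [Finite G] {p : ℕ} [hp : Fact p.Prime] {E : Subgroup G}

theorem exists_slim_abelian (hG : IsPGroup p G)
    (hC : ∀ y : G, (∀ e ∈ E, e * y = y * e) → y ∈ E)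
    (hab : ∀ a ∈ E, ∀ b ∈ E, a * b = b * a) (hcard : Nat.card E = p ^ 2) :
    ∃ x : G, Slim p x := by
  by_cases hZ : E ≤ center G
  · refine ⟨1, hG, ?_⟩
    rw [← hcard]
    exact card_le_of_le fun y _ => hC y fun e he => (mem_center_iff.1 (hZ he) y).symm
  obtain ⟨a, haE, ha⟩ := SetLike.not_le_iff_exists.1 hZ
  haveI : Nontrivial G := ⟨⟨a, 1, fun h => ha (h ▸ one_mem _)⟩⟩
  have hZE : center G ≤ E := fun z hz => hC z fun e _ => mem_center_iff.1 hz e
  refine ⟨a, hG, hcard ▸ card_le_of_le fun y hy => hC y fun e he => ?_⟩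
  -- `a` and the centre generate `E`
  have hlt : center G < zpowers a ⊔ center G :=
    lt_of_le_of_ne le_sup_right fun h => ha (h ▸ mem_sup_left (mem_zpowers a))
  have hle : zpowers a ⊔ center G ≤ E := sup_le ((zpowers_le).2 haE) hZE
  have heq : zpowers a ⊔ center G = E := by
    refine eq_of_le_of_card_ge hle ?_
    obtain ⟨i, hi⟩ := IsPGroup.iff_card.1 (hG.to_subgroup (zpowers a ⊔ center G))
    haveI := hG.center_nontrivial
    have h1 : 1 < Nat.card (center G) := Finite.one_lt_card_iff_nontrivial.2 inferInstance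
    have h2 : Nat.card (center G) < Nat.card (zpowers a ⊔ center G : Subgroup G) :=
      lt_of_le_of_ne (card_le_of_le hlt.le) fun h => hlt.ne (eq_of_le_of_card_ge hlt.le h.ge)
    obtain ⟨l, hl⟩ := IsPGroup.iff_card.1 (hG.to_subgroup (center G))
    rw [hl] at h1 h2
    rw [hi] at h2 ⊢
    rw [hcard]
    refine Nat.pow_le_pow_right hp.out.pos ?_
    rw [Nat.pow_lt_pow_iff_right hp.out.one_lt] at h2
    have : l ≠ 0 := fun h => by simp [h] at h1
    omega
  have hle2 : E ≤ centralizer ({y} : Set G) := heq ▸ sup_le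
    ((zpowers_le).2 (mem_centralizer_singleton_iff.2 (mem_centralizer_singleton_iff.1 hy).symm))
    (fun z hz => mem_centralizer_singleton_iff.2 (mem_center_iff.1 hz y).symm)
  exact mem_centralizer_singleton_iff.1 (hle2 he)

theorem exists_slim_extraspecial (hG : IsPGroup p G)
    (hC : ∀ y : G, (∀ e ∈ E, e * y = y * e) → y ∈ E)
    (hcard : Nat.card E = p ^ 3) (hnab : ¬ ∀ a ∈ E, ∀ b ∈ E, a * b = b * a) :
    ∃ x : G, Slim p x := by
  push Not at hnab
  obtain ⟨a, haE, b, hbE, hab⟩ := hnab
  have hZE : center G ≤ E := fun z hz => hC z fun e _ => mem_center_iff.1 hz e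
  haveI : Nontrivial G := ⟨⟨a, 1, fun h => hab (by rw [h]; simp)⟩⟩
  haveI := hG.center_nontrivial
  -- centralizers inside `E` of noncentral elements
  have hCE : ∀ e ∈ E, (∃ w ∈ E, e * w ≠ w * e) →
      Nat.card (centralizer ({e} : Set G) ⊓ E : Subgroup G) ≤ p ^ 2 := by
    rintro e he ⟨w, hw, hew⟩
    obtain ⟨i, hi, hi'⟩ := (Nat.dvd_prime_pow hp.out).1
      (hcard ▸ card_dvd_of_le (inf_le_right : centralizer ({e} : Set G) ⊓ E ≤ E))
    rw [hi']
    refine Nat.pow_le_pow_right hp.out.pos ?_
    by_contra hlt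
    have heq := eq_of_le_of_card_ge (inf_le_right : centralizer ({e} : Set G) ⊓ E ≤ E)
      (by rw [hi', hcard, show i = 3 by omega])
    exact hew (mem_centralizer_singleton_iff.1 (heq.ge hw).1).symm
  -- two non-commuting elements generate, and the centre of `G` has order `p`
  have hgen : ∀ u v : G, u ∈ E → v ∈ E → u * v ≠ v * u →
      center G ⊔ zpowers u ⊔ zpowers v = E := by
    intro u v hu hv huv
    refine eq_of_le_of_card_ge (sup_le (sup_le hZE ((zpowers_le).2 hu)) ((zpowers_le).2 hv)) ?_
    have s1 : center G < center G ⊔ zpowers u := lt_of_le_of_ne le_sup_left fun h => huv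
      (mem_center_iff.1 (h ▸ mem_sup_right (mem_zpowers u) : u ∈ center G) v).symm
    have s2 : center G ⊔ zpowers u < center G ⊔ zpowers u ⊔ zpowers v := by
      refine lt_of_le_of_ne le_sup_left fun h => huv ?_
      have hv' : v ∈ center G ⊔ zpowers u := h ▸ mem_sup_right (mem_zpowers v)
      have : center G ⊔ zpowers u ≤ centralizer ({u} : Set G) := sup_le (center_le_centralizer _)
        ((zpowers_le).2 (mem_centralizer_singleton_iff.2 rfl))
      exact (mem_centralizer_singleton_iff.1 (this hv')).symm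
    obtain ⟨l₀, e₀⟩ := IsPGroup.iff_card.1 (hG.to_subgroup (center G))
    obtain ⟨l₁, e₁⟩ := IsPGroup.iff_card.1 (hG.to_subgroup (center G ⊔ zpowers u))
    obtain ⟨l₂, e₂⟩ := IsPGroup.iff_card.1 (hG.to_subgroup (center G ⊔ zpowers u ⊔ zpowers v))
    have h0 : 1 < Nat.card (center G) := Finite.one_lt_card_iff_nontrivial.2 inferInstance
    have h1 : Nat.card (center G) < Nat.card (center G ⊔ zpowers u : Subgroup G) :=
      lt_of_le_of_ne (card_le_of_le s1.le) fun h => s1.ne (eq_of_le_of_card_ge s1.le h.ge)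
    have h2 : Nat.card (center G ⊔ zpowers u : Subgroup G) <
        Nat.card (center G ⊔ zpowers u ⊔ zpowers v : Subgroup G) :=
      lt_of_le_of_ne (card_le_of_le s2.le) fun h => s2.ne (eq_of_le_of_card_ge s2.le h.ge)
    rw [e₀] at h0 h1
    rw [e₁] at h1 h2
    rw [e₂] at h2 ⊢
    rw [hcard]
    refine Nat.pow_le_pow_right hp.out.pos ?_
    rw [Nat.pow_lt_pow_iff_right hp.out.one_lt] at h1 h2
    have : l₀ ≠ 0 := fun h => by simp [h] at h0
    omega
  -- commutators inside `E` fall in the centre of `G`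
  have hZp : Nat.card (center G) = p := by
    obtain ⟨l₀, e₀⟩ := IsPGroup.iff_card.1 (hG.to_subgroup (center G))
    have h0 : 1 < Nat.card (center G) := Finite.one_lt_card_iff_nontrivial.2 inferInstance
    rw [e₀] at h0 ⊢
    have : l₀ ≠ 0 := fun h => by simp [h] at h0
    suffices l₀ ≤ 1 by rw [show l₀ = 1 by omega, pow_one]
    by_contra hlt
    have h1 := hCE a haE ⟨b, hbE, hab⟩
    have s1 : center G < centralizer ({a} : Set G) ⊓ E := lt_of_le_of_ne
      (le_inf (center_le_centralizer _) hZE) fun h => hab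
        (mem_center_iff.1 (h ▸ ⟨mem_centralizer_singleton_iff.2 rfl, haE⟩ : a ∈ center G) b).symm
    have h2 : Nat.card (center G) < Nat.card (centralizer ({a} : Set G) ⊓ E : Subgroup G) :=
      lt_of_le_of_ne (card_le_of_le s1.le) fun h => s1.ne (eq_of_le_of_card_ge s1.le h.ge)
    rw [e₀] at h2
    have h3 : p ^ 2 ≤ p ^ l₀ := Nat.pow_le_pow_right hp.out.pos (by omega)
    omega
  have hcomm : ∀ u ∈ E, ∀ v ∈ E, ⁅u, v⁆ ∈ center G := by
    haveI : (center G).Normal := inferInstance
    have hq : IsPGroup p (E.map (QuotientGroup.mk' (center G))) :=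
      (hG.to_quotient _).to_subgroup _
    have hc : Nat.card (E.map (QuotientGroup.mk' (center G))) = p ^ 2 := by
      have h1 := Subgroup.card_map_dvd (H := E) (QuotientGroup.mk' (center G))
      have h2 : Nat.card (E.map (QuotientGroup.mk' (center G))) = (center G).relIndex E := by
        rw [← relIndex_bot_left (E.map (QuotientGroup.mk' (center G))),
          show (⊥ : Subgroup (G ⧸ center G)) = (center G).map (QuotientGroup.mk' (center G)) from
            ((Subgroup.map_eq_bot_iff _).2 (by rw [QuotientGroup.ker_mk'])).symm,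
          relIndex_map_map, QuotientGroup.ker_mk', sup_idem, sup_eq_left.2 hZE]
      have h3 := relIndex_mul_relIndex (⊥ : Subgroup G) (center G) E bot_le hZE
      rw [relIndex_bot_left, relIndex_bot_left, hcard, hZp] at h3
      rw [h2]
      exact Nat.eq_of_mul_eq_mul_left hp.out.pos (h3.trans (by ring))
    intro u hu v hv
    rw [← QuotientGroup.eq_one_iff]
    have h := IsPGroup.commutative_of_card_eq_prime_sq hc
    have h' := congrArg Subtype.val (h
      ⟨_, mem_map_of_mem (QuotientGroup.mk' (center G)) hu⟩ ⟨_, mem_map_of_mem _ hv⟩)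
    rw [← QuotientGroup.mk'_apply, map_commutatorElement]
    exact commutatorElement_eq_one_iff_mul_comm.2 h'
  -- `E` is self-centralizing modulo the centre
  have hself : ∀ y : G, (∀ e ∈ E, ⁅y, e⁆ ∈ center G) → y ∈ E := by
    intro y hy
    have hgenZ : ∀ w ∈ center G, ∃ i : ℕ, ⁅a, b⁆ ^ i = w := by
      intro w hw
      have hne : ⁅a, b⁆ ≠ 1 := fun h => hab (commutatorElement_eq_one_iff_mul_comm.1 h)
      have htop : zpowers (⟨⁅a, b⁆, hcomm a haE b hbE⟩ : center G) = ⊤ :=
        zpowers_eq_top_of_prime_card hZp (by simpa [Subtype.ext_iff] using hne)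
      obtain ⟨i, hi⟩ := mem_powers_iff_mem_zpowers.2 (htop ▸ mem_top (⟨w, hw⟩ : center G))
      exact ⟨i, congrArg Subtype.val hi⟩
    -- the commutator with elements of `E` is multiplicative
    have hmul : ∀ u v w : G, w ∈ E → ⁅v, w⁆ ∈ center G → ⁅u * v, w⁆ = ⁅u, w⁆ * ⁅v, w⁆ := by
      intro u v w _ hvw
      have : u * ⁅v, w⁆ * u⁻¹ = ⁅v, w⁆ := by rw [mem_center_iff.1 hvw u, mul_inv_cancel_right]
      calc ⁅u * v, w⁆ = (u * ⁅v, w⁆ * u⁻¹) * ⁅u, w⁆ := by simp [commutatorElement_def, mul_assoc]
        _ = ⁅v, w⁆ * ⁅u, w⁆ := by rw [this]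
        _ = ⁅u, w⁆ * ⁅v, w⁆ := (mem_center_iff.1 hvw _).symm
    have hpow : ∀ u w : G, u ∈ E → w ∈ E → ∀ i : ℕ, ⁅u ^ i, w⁆ = ⁅u, w⁆ ^ i := by
      intro u w hu hw i
      induction i with
      | zero => simp
      | succ i ih => rw [pow_succ, hmul _ _ _ hw (hcomm u hu w hw), ih, pow_succ]
    have hya := hy a haE
    have hyb := hy b hbE
    obtain ⟨i, hi⟩ := hgenZ _ hya
    obtain ⟨j, hj⟩ := hgenZ _ (inv_mem hyb)
    have hu : a ^ j * b ^ i ∈ E := mul_mem (pow_mem haE j) (pow_mem hbE i)
    refine (mul_mem_cancel_left hu).1 (hC _ fun e he => ?_)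
    suffices h : E ≤ centralizer ({a ^ j * b ^ i * y} : Set G) from
      mem_centralizer_singleton_iff.1 (h he)
    rw [← hgen a b haE hbE hab]
    refine sup_le (sup_le (fun z hz => mem_centralizer_singleton_iff.2 (mem_center_iff.1 hz _).symm)
      ((zpowers_le).2 (mem_centralizer_singleton_iff.2 (Eq.symm ?_))))
      ((zpowers_le).2 (mem_centralizer_singleton_iff.2 (Eq.symm ?_)))
    · refine commutatorElement_eq_one_iff_mul_comm.1 ?_
      rw [hmul _ _ _ haE hya, hmul _ _ _ haE (hcomm _ (pow_mem hbE i) a haE), hpow a a haE haE,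
        hpow b a hbE haE, commutatorElement_self, one_pow, one_mul, ← commutatorElement_inv a b,
        inv_pow, hi, inv_mul_cancel]
    · refine commutatorElement_eq_one_iff_mul_comm.1 ?_
      rw [hmul _ _ _ hbE hyb, hmul _ _ _ hbE (hcomm _ (pow_mem hbE i) b hbE), hpow a b haE hbE,
        hpow b b hbE hbE, commutatorElement_self, one_pow, mul_one, hj, inv_mul_cancel]
  -- an element that is not central modulo the centre
  by_cases hbad : ∀ e ∈ E, ∀ g : G, ⁅e, g⁆ ∈ center G
  · refine ⟨a, hG, le_trans (card_le_of_le ?_) (hCE a haE ⟨b, hbE, hab⟩)⟩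
    refine le_inf le_rfl fun g _ => hself g fun e he => ?_
    rw [← commutatorElement_inv]
    exact inv_mem (hbad e he g)
  push Not at hbad
  obtain ⟨e₁, he₁, g₁, hg₁⟩ := hbad
  haveI := hG.isNilpotent
  have hne : center G < ⊤ := lt_of_le_of_ne le_top fun h => hab
    (mem_center_iff.1 (h ▸ mem_top a : a ∈ center G) b).symm
  obtain ⟨z, -, hz, hzc⟩ := CfsgLib.PGroupBasic.exists_central_mod (center G) ⊤ hne
  have hzE : z ∈ E := hself z fun e _ => by simpa [commutatorElement_def] using hzc e
  have hnc : e₁ * z ≠ z * e₁ := by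
    intro hc
    apply hg₁
    -- otherwise `e₁` lies in the centre extended by `z`
    have hze : e₁ ∈ center G ⊔ zpowers z := by
      by_contra hnot
      obtain ⟨w, hwE, hzw⟩ : ∃ w ∈ E, z * w ≠ w * z := by
        by_contra hcon
        push Not at hcon
        refine hz (mem_center_iff.2 fun g => ?_)
        have s1 : center G < center G ⊔ zpowers z :=
          lt_of_le_of_ne le_sup_left fun h => hz (h ▸ mem_sup_right (mem_zpowers z))
        exfalso
        -- the centre of `E` would be too large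
        have hza := hcon a haE
        have hzb := hcon b hbE
        have hzZ : z ∈ centralizer ({a} : Set G) ⊓ E := ⟨mem_centralizer_singleton_iff.2 hza, hzE⟩
        have hle : center G ⊔ zpowers z ⊔ zpowers a ≤ centralizer ({a} : Set G) ⊓ E :=
          sup_le (sup_le (le_inf (center_le_centralizer _) hZE) ((zpowers_le).2 hzZ))
            ((zpowers_le).2 ⟨mem_centralizer_singleton_iff.2 rfl, haE⟩)
        have hlt2 : center G ⊔ zpowers z < center G ⊔ zpowers z ⊔ zpowers a := by
          refine lt_of_le_of_ne le_sup_left fun h => hab ?_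
          have h' : center G ⊔ zpowers z ≤ centralizer ({b} : Set G) :=
            sup_le (center_le_centralizer _) ((zpowers_le).2 (mem_centralizer_singleton_iff.2 hzb))
          exact mem_centralizer_singleton_iff.1 (h' (h ▸ mem_sup_right (mem_zpowers a)))
        have c1 : Nat.card (center G) < Nat.card (center G ⊔ zpowers z : Subgroup G) :=
          lt_of_le_of_ne (card_le_of_le s1.le) fun h => s1.ne (eq_of_le_of_card_ge s1.le h.ge)
        have c2 : Nat.card (center G ⊔ zpowers z : Subgroup G) <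
            Nat.card (center G ⊔ zpowers z ⊔ zpowers a : Subgroup G) :=
          lt_of_le_of_ne (card_le_of_le hlt2.le) fun h => hlt2.ne (eq_of_le_of_card_ge hlt2.le h.ge)
        have c3 := (card_le_of_le hle).trans (hCE a haE ⟨b, hbE, hab⟩)
        obtain ⟨l₁, e₁'⟩ := IsPGroup.iff_card.1 (hG.to_subgroup (center G ⊔ zpowers z))
        obtain ⟨l₂, e₂'⟩ := IsPGroup.iff_card.1 (hG.to_subgroup (center G ⊔ zpowers z ⊔ zpowers a))
        rw [hZp, e₁', ← pow_one p, ← pow_mul, one_mul] at c1
        rw [e₁', e₂'] at c2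
        rw [e₂', Nat.pow_le_pow_iff_right hp.out.one_lt] at c3
        rw [Nat.pow_lt_pow_iff_right hp.out.one_lt] at c1 c2
        omega
      have hsub : center G ⊔ zpowers z ⊔ zpowers e₁ ≤ centralizer ({z} : Set G) ⊓ E :=
        sup_le (sup_le (le_inf (center_le_centralizer _) hZE)
          ((zpowers_le).2 ⟨mem_centralizer_singleton_iff.2 rfl, hzE⟩))
          ((zpowers_le).2 ⟨mem_centralizer_singleton_iff.2 hc, he₁⟩)
      have s1 : center G < center G ⊔ zpowers z :=
        lt_of_le_of_ne le_sup_left fun h => hz (h ▸ mem_sup_right (mem_zpowers z))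
      have hlt2 : center G ⊔ zpowers z < center G ⊔ zpowers z ⊔ zpowers e₁ :=
        lt_of_le_of_ne le_sup_left fun h => hnot (h ▸ mem_sup_right (mem_zpowers e₁))
      have c1 : Nat.card (center G) < Nat.card (center G ⊔ zpowers z : Subgroup G) :=
        lt_of_le_of_ne (card_le_of_le s1.le) fun h => s1.ne (eq_of_le_of_card_ge s1.le h.ge)
      have c2 : Nat.card (center G ⊔ zpowers z : Subgroup G) <
          Nat.card (center G ⊔ zpowers z ⊔ zpowers e₁ : Subgroup G) :=
        lt_of_le_of_ne (card_le_of_le hlt2.le) fun h => hlt2.ne (eq_of_le_of_card_ge hlt2.le h.ge)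
      have c3 := (card_le_of_le hsub).trans (hCE z hzE ⟨w, hwE, hzw⟩)
      obtain ⟨l₁, e₁'⟩ := IsPGroup.iff_card.1 (hG.to_subgroup (center G ⊔ zpowers z))
      obtain ⟨l₂, e₂'⟩ := IsPGroup.iff_card.1 (hG.to_subgroup (center G ⊔ zpowers z ⊔ zpowers e₁))
      rw [hZp, e₁', ← pow_one p, ← pow_mul, one_mul] at c1
      rw [e₁', e₂'] at c2
      rw [e₂', Nat.pow_le_pow_iff_right hp.out.one_lt] at c3
      rw [Nat.pow_lt_pow_iff_right hp.out.one_lt] at c1 c2
      omega
    let K : Subgroup G := (center (G ⧸ center G)).comap (QuotientGroup.mk' (center G))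
    have hK : ∀ t, t ∈ K ↔ ∀ g, ⁅t, g⁆ ∈ center G := by
      intro t
      simp only [K, mem_comap, mem_center_iff]
      constructor
      · intro h g
        rw [← mem_center_iff, ← QuotientGroup.eq_one_iff, ← QuotientGroup.mk'_apply,
          map_commutatorElement]
        exact commutatorElement_eq_one_iff_mul_comm.2 (h (QuotientGroup.mk' _ g)).symm
      · intro h q
        obtain ⟨g, rfl⟩ := QuotientGroup.mk'_surjective (center G) q
        refine (commutatorElement_eq_one_iff_mul_comm.1 ?_).symm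
        rw [← map_commutatorElement]
        exact (QuotientGroup.eq_one_iff _).2 (mem_center_iff.2 (h g))
    have hle : center G ⊔ zpowers z ≤ K := sup_le
      (fun t ht => (hK t).2 fun g => by
        rw [show ⁅t, g⁆ = 1 from commutatorElement_eq_one_iff_mul_comm.2 (mem_center_iff.1 ht g).symm]
        exact one_mem _)
      ((zpowers_le).2 ((hK z).2 fun g => by simpa [commutatorElement_def] using hzc g))
    exact (hK e₁).1 (hle hze) g₁
  refine ⟨e₁, hG, le_trans (card_le_of_le ?_) (hCE e₁ he₁ ⟨z, hzE, hnc⟩)⟩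
  refine le_inf le_rfl fun g hg => hself g fun e he => ?_
  -- `g` centralises `e₁` and `z` modulo the centre, hence all of `E`
  let K : Subgroup G := (centralizer ({QuotientGroup.mk' (center G) g} : Set (G ⧸ center G))).comap
    (QuotientGroup.mk' (center G))
  have hEK : E ≤ K := by
    rw [← hgen e₁ z he₁ hzE hnc]
    refine sup_le (sup_le (fun t ht => ?_) ((zpowers_le).2 ?_)) ((zpowers_le).2 ?_)
    · refine mem_comap.2 (mem_centralizer_singleton_iff.2 ?_)
      rw [show QuotientGroup.mk' (center G) t = 1 from (QuotientGroup.eq_one_iff t).2 ht]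
      simp
    · refine mem_comap.2 (mem_centralizer_singleton_iff.2 ?_)
      rw [← map_mul, ← map_mul, mem_centralizer_singleton_iff.1 hg]
    · refine mem_comap.2 (mem_centralizer_singleton_iff.2 ?_)
      refine commutatorElement_eq_one_iff_mul_comm.1 ?_
      rw [← map_commutatorElement]
      exact (QuotientGroup.eq_one_iff _).2 (by simpa [commutatorElement_def] using hzc g)
  rw [← QuotientGroup.eq_one_iff, ← QuotientGroup.mk'_apply, map_commutatorElement]
  exact commutatorElement_eq_one_iff_mul_comm.2 (mem_centralizer_singleton_iff.1 (hEK he)).symm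

end CfsgLib.PearlMC
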