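import Cfsg.Agent.PearlMC.ThreeTools

/-!
Slim `3`-groups of order at least `3 ^ 5` have all subgroups generated by two elements.
-/

set_option autoImplicit false
set_option linter.style.haveILetI false

namespace CfsgLib.PearlMC

open Subgroup CfsgLib.FGSA.PolySeq
open scoped commutatorElement

universe u

variable {G : Type u} [Group G] [Finite G] {x : G}

local instance : Fact (Nat.Prime 3) := ⟨Nat.prime_three⟩

/-- The data of the two-step centralizer. -/
structure Two (x a : G) (n : ℕ) : Prop where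
  slim : Slim 3 x
  card : Nat.card G = 3 ^ n
  five : 5 ≤ n
  notmem : a ∉ zpowers x ⊔ gam G 1
  one : a ∈ annih G 1

theorem exists_two (S : Slim 3 x) {n : ℕ} (hn : Nat.card G = 3 ^ n) (h5 : 5 ≤ n) :
    ∃ a : G, Two x a n := by
  haveI := S.pgroup.isNilpotent
  have hlt : 3 ^ 2 < Nat.card G := hn ▸ Nat.pow_lt_pow_right (by norm_num) (by omega)
  obtain ⟨b, hb, hb'⟩ := S.exists_layer hn le_rfl (by omega)
  obtain ⟨y, hy⟩ : ∃ y : G, y ∉ zpowers x ⊔ gam G 1 := by
    by_contra hcon
    push Not at hcon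
    have h1 : zpowers x = ⊤ := eq_top_of_sup_gam S.pgroup (eq_top_iff.2 fun g _ => hcon g)
    have h2 : centralizer ({x} : Set G) = ⊤ := eq_top_iff.2 fun g _ => mem_centralizer_singleton_iff.2 (by
      obtain ⟨i, rfl⟩ := mem_zpowers_iff.1 (h1 ▸ mem_top g : g ∈ zpowers x)
      exact ((Commute.refl x).zpow_left i).eq)
    have := S.card_le
    rw [h2, card_top] at this
    omega
  have hd : ⁅x, b⁆ ∈ gam G 2 ∧ ⁅x, b⁆ ∉ gam G 3 := by
    have h := S.comm_level hlt le_rfl (inv_mem hb) (fun h => hb' (by simpa using inv_mem h))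
      (S.gam_ne_bot hn (by omega))
    rw [inv_inv] at h
    rw [← commutatorElement_inv]
    exact ⟨inv_mem h.1, fun h' => h.2 (inv_mem_iff.1 h')⟩
  have hyb : ⁅y, b⁆ ∈ gam G 2 := by
    rw [← commutatorElement_inv]; exact inv_mem (comm_mem_gam_succ hb)
  obtain ⟨i, w, hw, e⟩ := S.layer_gen hn (k := 2) (by omega) (by omega) hd.1 hd.2 hyb
  refine ⟨(x ^ i)⁻¹ * y, S, hn, h5, fun h => hy ?_, mem_annih.2 fun v hv => ?_⟩
  · simpa using mul_mem (mem_sup_left (pow_mem (mem_zpowers x) i) :
      x ^ i ∈ zpowers x ⊔ gam G 1) h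
  obtain ⟨j, c, hc, rfl⟩ := S.layer_gen hn le_rfl (by omega) hb hb' hv
  set a := (x ^ i)⁻¹ * y with ha
  have hxi : ∀ i : ℕ, ((⁅x ^ i, b⁆ : G) : G ⧸ gam G (1 + 2)) =
      ((⁅x, b⁆ : G) : G ⧸ gam G (1 + 2)) ^ i := by
    intro i
    induction i with
    | zero => rw [pow_zero, pow_zero, commutatorElement_one_left]; rfl
    | succ i ih => rw [pow_succ, comm_mul_congr hb, ih, pow_succ]
  have hab : ⁅a, b⁆ ∈ gam G (1 + 2) := by
    rw [← QuotientGroup.eq_one_iff]
    have h := comm_mul_congr (u := x ^ i) (v := a) (y := b) hb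
    rw [ha, mul_inv_cancel_left, hxi, e, QuotientGroup.mk_mul,
      (QuotientGroup.eq_one_iff w).2 hw, mul_one, QuotientGroup.mk_pow] at h
    exact mul_eq_left.1 h.symm
  have hbj : ∀ j : ℕ, ⁅a, b ^ j⁆ ∈ gam G (1 + 2) := by
    intro j
    induction j with
    | zero => simp
    | succ j ih =>
      rw [show ⁅a, b ^ (j + 1)⁆ = ⁅a, b ^ j⁆ * (b ^ j * ⁅a, b⁆ * (b ^ j)⁻¹) by
        rw [pow_succ]; simp [commutatorElement_def, mul_assoc]]
      exact mul_mem ih ((by infer_instance : (gam G (1 + 2)).Normal).conj_mem _ hab _)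
  rw [show ⁅a, b ^ j * c⁆ = ⁅a, b ^ j⁆ * (b ^ j * ⁅a, c⁆ * (b ^ j)⁻¹) by
    simp [commutatorElement_def, mul_assoc]]
  refine mul_mem (hbj j) ((by infer_instance : (gam G (1 + 2)).Normal).conj_mem _ ?_ _)
  rw [← commutatorElement_inv]
  exact inv_mem (comm_mem_gam_succ hc)

variable {a : G} {n : ℕ}

theorem Two.lt_card (T : Two x a n) : 3 ^ 2 < Nat.card G :=
  T.card ▸ Nat.pow_lt_pow_right (by norm_num) (by have := T.five; omega)

/-- The two-step centralizer annihilates every layer. -/
theorem Two.annihilates (T : Two x a n) : ∀ k, 1 ≤ k → a ∈ annih G k := by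
  haveI := T.slim.pgroup.isNilpotent
  have hn := T.card
  have h5 := T.five
  have hlt := T.lt_card
  intro k hk
  induction k using Nat.strong_induction_on with
  | _ k ih =>
    rcases Nat.lt_or_ge k 3 with hk3 | hk3
    · interval_cases k
      · exact T.one
      -- the second layer
      refine mem_annih.2 fun v hv => ?_
      obtain ⟨b, hb, hb'⟩ := T.slim.exists_layer hn le_rfl (by omega)
      have hd : ⁅x, b⁆ ∈ gam G 2 ∧ ⁅x, b⁆ ∉ gam G 3 := by
        have h := T.slim.comm_level hlt le_rfl (inv_mem hb) (fun h => hb' (by simpa using inv_mem h))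
          (T.slim.gam_ne_bot hn (by omega))
        rw [inv_inv] at h
        rw [← commutatorElement_inv]
        exact ⟨inv_mem h.1, fun h' => h.2 (inv_mem_iff.1 h')⟩
      obtain ⟨i, w, hw, rfl⟩ := T.slim.layer_gen hn (k := 2) (by omega) (by omega) hd.1 hd.2 hv
      have hN : (gam G (2 + 2)).Normal := by infer_instance
      set f := QuotientGroup.mk' (gam G (2 + 2)) with hf
      have hcen : ∀ u ∈ gam G 3, ∀ q, Commute (f u) q := by
        intro u hu q
        obtain ⟨g, rfl⟩ := QuotientGroup.mk'_surjective (gam G (2 + 2)) q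
        refine commutatorElement_eq_one_iff_commute.1 ?_
        rw [← map_commutatorElement]
        exact (QuotientGroup.eq_one_iff _).2 (comm_mem_gam_succ hu)
      have hone : ∀ u ∈ gam G 1, Commute (f u) (f b) := by
        intro u hu
        obtain ⟨j, c, hc, rfl⟩ := T.slim.layer_gen hn le_rfl (by omega) hb hb' hu
        have : Commute (f c) (f b) := commutatorElement_eq_one_iff_commute.1 (by
          rw [← map_commutatorElement]
          exact (QuotientGroup.eq_one_iff _).2 (comm_mem_gam_of hc hb (by norm_num)))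
        rw [map_mul, map_pow]
        exact ((Commute.refl _).pow_left j).mul_left this
      have he : ⁅a, b⁆ ∈ gam G 3 := mem_annih.1 T.one b hb
      have hu : x⁻¹ * (a * x * a⁻¹) ∈ gam G 1 := by
        rw [show x⁻¹ * (a * x * a⁻¹) = x⁻¹ * ⁅a, x⁆ * x by simp [commutatorElement_def, mul_assoc]]
        exact (by infer_instance : (gam G 1).Normal).conj_mem' _
          (commutator_mem_commutator (mem_top a) (mem_top x)) x
      have key : f (a * ⁅x, b⁆ * a⁻¹) = f ⁅x, b⁆ := by
        have e1 : a * ⁅x, b⁆ * a⁻¹ = ⁅x * (x⁻¹ * (a * x * a⁻¹)), ⁅a, b⁆ * b⁆ := by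
          simp [commutatorElement_def, mul_assoc]
        have hE := hcen _ he
        have hUB := (hone _ hu).eq
        rw [e1, map_commutatorElement, map_commutatorElement, map_mul f x, map_mul f ⁅a, b⁆ b]
        generalize f (x⁻¹ * (a * x * a⁻¹)) = U at hUB ⊢
        generalize f ⁅a, b⁆ = E at hE ⊢
        generalize f x = X
        generalize f b = B at hUB ⊢
        simp only [commutatorElement_def, mul_inv_rev]
        calc X * U * (E * B) * (U⁻¹ * X⁻¹) * (B⁻¹ * E⁻¹)
            = X * (U * E) * B * U⁻¹ * X⁻¹ * B⁻¹ * E⁻¹ := by group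
          _ = X * (E * U) * B * U⁻¹ * X⁻¹ * B⁻¹ * E⁻¹ := by rw [← (hE U).eq]
          _ = (X * E) * (U * B) * U⁻¹ * X⁻¹ * B⁻¹ * E⁻¹ := by group
          _ = (E * X) * (B * U) * U⁻¹ * X⁻¹ * B⁻¹ * E⁻¹ := by rw [hUB, ← (hE X).eq]
          _ = E * (X * B * X⁻¹ * B⁻¹) * E⁻¹ := by group
          _ = X * B * X⁻¹ * B⁻¹ := by rw [(hE (X * B * X⁻¹ * B⁻¹)).eq, mul_inv_cancel_right]
      have hdi : f (a * ⁅x, b⁆ ^ i * a⁻¹) = f (⁅x, b⁆ ^ i) := by
        rw [← conj_pow, map_pow, key, map_pow]
      rw [show ⁅a, ⁅x, b⁆ ^ i * w⁆ =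
        (a * ⁅x, b⁆ ^ i * a⁻¹) * (a * w * a⁻¹ * w⁻¹) * (⁅x, b⁆ ^ i)⁻¹ by
          simp [commutatorElement_def, mul_assoc]]
      refine (QuotientGroup.eq_one_iff _).1 ?_
      show f _ = 1
      rw [map_mul, map_mul, hdi, show a * w * a⁻¹ * w⁻¹ = ⁅a, w⁆ from rfl]
      have : f ⁅a, w⁆ = 1 := (QuotientGroup.eq_one_iff _).2 (by
        rw [← commutatorElement_inv]; exact inv_mem (comm_mem_gam_succ hw))
      rw [this, mul_one, map_inv, mul_inv_cancel]
    -- from `k - 2` to `k` through the cube map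
    obtain ⟨l, rfl⟩ : ∃ l, k = l + 2 := ⟨k - 2, by omega⟩
    have hl := mem_annih.1 (ih l (by omega) (by omega))
    refine mem_annih.2 fun v hv => ?_
    rcases Nat.lt_or_ge n (l + 4) with hnl | hnl
    · rw [T.slim.gam_eq_bot hn (by omega) (by omega), mem_bot] at hv
      subst hv; simp
    obtain ⟨w, hw, hw'⟩ := T.slim.exists_layer hn (k := l) (by omega) (by omega)
    obtain ⟨p1, p2⟩ := T.slim.pow_level (by norm_num) hn l (by omega) w hw
    have p3 := p2 hw' (by omega)
    rw [show l + 3 - 1 = l + 2 by omega] at p1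
    obtain ⟨i, c, hc, rfl⟩ := T.slim.layer_gen hn (k := l + 2) (by omega) (by omega) p1 p3 hv
    have he := hl w hw
    set f := QuotientGroup.mk' (gam G (l + 2 + 2)) with hf
    have hcom : Commute (f ⁅a, w⁆) (f w) := commutatorElement_eq_one_iff_commute.1 (by
      rw [← map_commutatorElement]
      exact (QuotientGroup.eq_one_iff _).2 (comm_mem_gam_of he hw (by omega)))
    have hcube : f (⁅a, w⁆ ^ 3) = 1 := (QuotientGroup.eq_one_iff _).2 (gam_anti (by omega)
      (T.slim.pow_level (by norm_num) hn (l + 2) (by omega) _ he).1)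
    have key : f (a * w ^ 3 * a⁻¹) = f (w ^ 3) := by
      rw [← conj_pow, show a * w * a⁻¹ = ⁅a, w⁆ * w by simp [commutatorElement_def, mul_assoc],
        map_pow, map_mul, hcom.mul_pow, ← map_pow, hcube, one_mul, ← map_pow]
    have hwi : f (a * (w ^ 3) ^ i * a⁻¹) = f ((w ^ 3) ^ i) := by
      rw [← conj_pow, map_pow, key, ← map_pow]
    rw [show ⁅a, (w ^ 3) ^ i * c⁆ =
      (a * (w ^ 3) ^ i * a⁻¹) * (a * c * a⁻¹ * c⁻¹) * ((w ^ 3) ^ i)⁻¹ by
        simp [commutatorElement_def, mul_assoc]]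
    refine (QuotientGroup.eq_one_iff _).1 ?_
    show f _ = 1
    rw [map_mul, map_mul, hwi, show a * c * a⁻¹ * c⁻¹ = ⁅a, c⁆ from rfl]
    have : f ⁅a, c⁆ = 1 := (QuotientGroup.eq_one_iff _).2 (by
      rw [← commutatorElement_inv]; exact inv_mem (comm_mem_gam_succ hc))
    rw [this, mul_one, map_inv, mul_inv_cancel]

/-- Elements outside the two-step centralizer lower the level by exactly one. -/
theorem Two.exact (T : Two x a n) {g : G} (hg : g ∉ zpowers a ⊔ gam G 1) {k : ℕ} (hk : 1 ≤ k)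
    (hkn : k + 3 ≤ n) {y : G} (hy : y ∈ gam G k) (hy' : y ∉ gam G (k + 1)) :
    ⁅g, y⁆ ∈ gam G (k + 1) ∧ ⁅g, y⁆ ∉ gam G (k + 2) := by
  haveI := T.slim.pgroup.isNilpotent
  haveI : (zpowers a ⊔ gam G 1).Normal := normal_of_gam_le le_sup_right
  have hA : zpowers a ⊔ gam G 1 ≤ annih G k :=
    sup_le ((zpowers_le).2 (T.annihilates k hk)) (gam_one_le_annih k)
  refine ⟨by rw [← commutatorElement_inv]; exact inv_mem (comm_mem_gam_succ hy), fun hc => ?_⟩
  have htop := T.slim.sup_eq_top T.lt_card T.notmem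
  obtain ⟨s, hs, h, hh, rfl⟩ := mem_sup_of_normal_right.1 (htop ▸ mem_top g :
    g ∈ zpowers x ⊔ (zpowers a ⊔ gam G 1))
  obtain ⟨i, rfl : x ^ i = s⟩ := mem_powers_iff_mem_zpowers.2 hs
  set f := QuotientGroup.mk' (gam G (k + 2)) with hf
  have hxi : ∀ i : ℕ, f ⁅x ^ i, y⁆ = f ⁅x, y⁆ ^ i := by
    intro i
    induction i with
    | zero => rw [pow_zero, pow_zero, commutatorElement_one_left, map_one]
    | succ i ih =>
      rw [pow_succ, hf, QuotientGroup.mk'_apply, comm_mul_congr hy]
      rw [hf, QuotientGroup.mk'_apply] at ih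
      rw [ih, QuotientGroup.mk'_apply, pow_succ]
  have h1 : f ⁅x, y⁆ ^ i = 1 := by
    have h2 := comm_mul_congr (u := x ^ i) (v := h) hy
    rw [(QuotientGroup.eq_one_iff _).2 hc, (QuotientGroup.eq_one_iff _).2
      (mem_annih.1 (hA hh) y hy), mul_one] at h2
    rw [← hxi]
    exact h2.symm
  have hlev := T.slim.comm_level T.lt_card hk (inv_mem hy) (fun h => hy' (by simpa using inv_mem h))
    (T.slim.gam_ne_bot T.card (by omega))
  rw [inv_inv] at hlev
  have hd1 : ⁅x, y⁆ ∈ gam G (k + 1) := by rw [← commutatorElement_inv]; exact inv_mem hlev.1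
  have hd2 : ⁅x, y⁆ ∉ gam G (k + 2) := fun h' => hlev.2 (by
    rw [← commutatorElement_inv]; exact inv_mem h')
  have h3 : f ⁅x, y⁆ ^ 3 = 1 := by
    rw [← map_pow]
    exact (QuotientGroup.eq_one_iff _).2 (gam_anti (by omega)
      (T.slim.pow_level (by norm_num) T.card (k + 1) (by omega) _ hd1).1)
  by_cases hi : 3 ∣ i
  · obtain ⟨j, rfl⟩ := hi
    refine hg (mul_mem ?_ hh)
    rw [pow_mul]
    refine pow_mem (mem_sup_right ?_) j
    by_contra hx3
    have hcent := T.slim.pow_prime_central T.lt_card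
    have : x ^ 3 ∈ centralizer ({x} : Set G) := center_le_centralizer _ hcent
    have hsq : ((x : G) : G ⧸ gam G 1) ^ 3 ≠ 1 := by
      rw [← QuotientGroup.mk_pow]; exact fun h => hx3 ((QuotientGroup.eq_one_iff _).1 h)
    have ho : orderOf ((x : G) : G ⧸ gam G 1) = 3 ^ (1 + 1) := orderOf_eq_prime_pow (p := 3)
      (by simpa using hsq) (by
        rw [show (3:ℕ) ^ (1 + 1) = (gam G 1).index from ((T.slim.index_eq T.lt_card.le).1).symm]
        exact pow_card_eq_one')
    have hgen : zpowers ((x : G) : G ⧸ gam G 1) = ⊤ := eq_top_of_card_eq _ (by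
      rw [Nat.card_zpowers, ho, ← Subgroup.index, (T.slim.index_eq T.lt_card.le).1])
    apply T.notmem
    obtain ⟨l, hl⟩ := mem_zpowers_iff.1 (hgen ▸ mem_top ((a : G) : G ⧸ gam G 1))
    rw [← QuotientGroup.mk_zpow] at hl
    rw [show a = x ^ l * ((x ^ l)⁻¹ * a) by group]
    exact mul_mem_sup (zpow_mem_zpowers x l) (QuotientGroup.eq.1 hl)
  · have hd : orderOf (f ⁅x, y⁆) ∣ Nat.gcd 3 i :=
      Nat.dvd_gcd (orderOf_dvd_of_pow_eq_one h3) (orderOf_dvd_of_pow_eq_one h1)
    rw [(Nat.prime_three.coprime_iff_not_dvd.2 hi).gcd_eq_one, Nat.dvd_one, orderOf_eq_one_iff] at hd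
    exact hd2 ((QuotientGroup.eq_one_iff _).1 hd)

/-- Elements outside the two-step centralizer have small centralizers. -/
theorem Two.slim_of_not_mem (T : Two x a n) {g : G} (hg : g ∉ zpowers a ⊔ gam G 1) : Slim 3 g := by
  refine ⟨T.slim.pgroup, ?_⟩
  have hn := T.card
  have h5 := T.five
  haveI := T.slim.pgroup.isNilpotent
  set C := centralizer ({g} : Set G) with hC
  have h1 : C ⊓ gam G 1 ≤ gam G (n - 2) := by
    have : ∀ k, 1 ≤ k → k ≤ n - 2 → C ⊓ gam G 1 ≤ gam G k := by
      intro k hk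
      induction k, hk using Nat.le_induction with
      | base => exact fun _ => inf_le_right
      | succ k hk ih =>
        intro hk2 y hy
        by_contra hy'
        have h2 := (T.exact hg hk (by omega) (ih (by omega) hy) hy').2
        rw [commutatorElement_eq_one_iff_mul_comm.2 (mem_centralizer_singleton_iff.1 hy.1).symm] at h2
        exact h2 (one_mem _)
    exact this (n - 2) (by omega) le_rfl
  have hc1 : Nat.card (gam G (n - 2)) = 3 := by
    have := (gam G (n - 2)).card_mul_index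
    rw [T.slim.index_gam hn (n - 2) (by omega) (by omega), show n - 2 + 1 = n - 1 by omega, hn,
      ← Nat.sub_add_cancel (show 1 ≤ n by omega), pow_succ', Nat.add_sub_cancel] at this
    exact Nat.eq_of_mul_eq_mul_right (pow_pos (by norm_num) _) this
  have hne : C ⊔ gam G 1 ≠ ⊤ := by
    intro h
    have hCt := eq_top_of_sup_gam T.slim.pgroup h
    have hb : gam G 1 ≤ gam G (n - 2) := by
      rw [hCt, top_inf_eq] at h1
      exact h1
    have e1 := index_dvd_of_le hb
    rw [T.slim.index_gam hn (n - 2) (by omega) (by omega), (T.slim.index_eq T.lt_card.le).1] at e1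
    have := (Nat.pow_dvd_pow_iff_le_right (by norm_num : 1 < 3)).1 e1
    omega
  have hrel : (gam G 1).relIndex (C ⊔ gam G 1) ≤ 3 := by
    have hm := relIndex_mul_index (le_sup_right : gam G 1 ≤ C ⊔ gam G 1)
    rw [(T.slim.index_eq T.lt_card.le).1] at hm
    obtain ⟨j, hj⟩ := T.slim.pgroup.index (C ⊔ gam G 1)
    have hj0 : j ≠ 0 := by
      rintro rfl
      rw [pow_zero] at hj
      exact hne (index_eq_one.1 hj)
    rw [hj] at hm
    have : 3 ≤ 3 ^ j := Nat.le_self_pow hj0 3
    nlinarith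
  have hm2 : Nat.card (C ⊓ gam G 1 : Subgroup G) * (gam G 1).relIndex C = Nat.card C := by
    have := relIndex_mul_relIndex (⊥ : Subgroup G) (C ⊓ gam G 1) C bot_le inf_le_left
    rwa [relIndex_bot_left, relIndex_bot_left, inf_relIndex_left] at this
  rw [← hm2, show (3 : ℕ) ^ 2 = 3 * 3 from rfl]
  refine Nat.mul_le_mul ((card_le_of_le h1).trans hc1.le) (le_trans (le_of_eq ?_) hrel)
  exact (relIndex_sup_right C (gam G 1)).symm

/-- Cubes of elements of the two-step centralizer outside `γ 1` have level exactly two. -/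
theorem Two.cube (T : Two x a n) {w : G} (hw : w ∈ zpowers a ⊔ gam G 1) (hw' : w ∉ gam G 1) :
    w ^ 3 ∈ gam G 2 ∧ w ^ 3 ∉ gam G 3 := by
  haveI := T.slim.pgroup.isNilpotent
  have hn := T.card
  have h5 := T.five
  haveI : (zpowers a ⊔ gam G 1).Normal := normal_of_gam_le le_sup_right
  have hxA : x ∉ zpowers a ⊔ gam G 1 := fun h => T.notmem (by
    have e := T.slim.sup_eq_top T.lt_card T.notmem
    rw [sup_eq_right.2 ((zpowers_le).2 h)] at e
    have h1 : zpowers a = ⊤ := eq_top_of_sup_gam T.slim.pgroup e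
    exfalso
    have h2 : centralizer ({x} : Set G) = ⊤ := eq_top_iff.2 fun g _ => mem_centralizer_singleton_iff.2 (by
      obtain ⟨i, rfl⟩ := mem_zpowers_iff.1 (h1 ▸ mem_top g : g ∈ zpowers a)
      obtain ⟨j, rfl⟩ := mem_zpowers_iff.1 (h1 ▸ mem_top x : x ∈ zpowers a)
      exact ((Commute.refl a).zpow_zpow i j).eq)
    have := T.slim.card_le
    rw [h2, card_top] at this
    have := T.lt_card
    omega)
  have hxw : x * w ∉ zpowers a ⊔ gam G 1 := fun h => hxA (by simpa using mul_mem h (inv_mem hw))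
  have hz : ∀ g, g ∉ zpowers a ⊔ gam G 1 → g ^ 3 ∈ gam G 3 := by
    intro g hg
    have S' := T.slim_of_not_mem hg
    have h1 := S'.pow_prime_central T.lt_card
    have hg1 : g ∉ gam G 1 := fun h => hg (mem_sup_right h)
    have h2 : g ^ 3 ∈ gam G 1 := by
      by_contra hg3
      have hsq : ((g : G) : G ⧸ gam G 1) ^ 3 ≠ 1 := by
        rw [← QuotientGroup.mk_pow]; exact fun h => hg3 ((QuotientGroup.eq_one_iff _).1 h)
      have ho : orderOf ((g : G) : G ⧸ gam G 1) = 3 ^ (1 + 1) := orderOf_eq_prime_pow (p := 3)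
        (by simpa using hsq) (by
          rw [show (3:ℕ) ^ (1 + 1) = (gam G 1).index from ((T.slim.index_eq T.lt_card.le).1).symm]
          exact pow_card_eq_one')
      have hgen : zpowers ((g : G) : G ⧸ gam G 1) = ⊤ := eq_top_of_card_eq _ (by
        rw [Nat.card_zpowers, ho, ← Subgroup.index, (T.slim.index_eq T.lt_card.le).1])
      have hall : zpowers g ⊔ gam G 1 = ⊤ := eq_top_iff.2 fun h _ => by
        obtain ⟨l, hl⟩ := mem_zpowers_iff.1 (hgen ▸ mem_top ((h : G) : G ⧸ gam G 1))
        rw [← QuotientGroup.mk_zpow] at hl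
        rw [show h = g ^ l * ((g ^ l)⁻¹ * h) by group]
        exact mul_mem_sup (zpow_mem_zpowers g l) (QuotientGroup.eq.1 hl)
      have htop := eq_top_of_sup_gam T.slim.pgroup hall
      have h3 : centralizer ({g} : Set G) = ⊤ := eq_top_iff.2 fun h _ =>
        mem_centralizer_singleton_iff.2 (by
          obtain ⟨i, rfl⟩ := mem_zpowers_iff.1 (htop ▸ mem_top h : h ∈ zpowers g)
          exact ((Commute.refl g).zpow_left i).eq)
      have := S'.card_le
      rw [h3, card_top] at this
      have := T.lt_card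
      omega
    have h4 : g ^ 3 ∈ centralizer ({x} : Set G) ⊓ gam G 1 := ⟨center_le_centralizer _ h1, h2⟩
    have hxnot : x ∉ gam G 1 := T.slim.not_mem T.lt_card
    have hle : gam G (n - 2) ≤ centralizer ({x} : Set G) ⊓ gam G 1 :=
      le_inf ((gam_le_center (T.slim.gam_eq_bot hn (by omega) (by omega))).trans
        (center_le_centralizer _)) (gam_anti (by omega))
    have hc1 : Nat.card (gam G (n - 2)) = 3 := by
      have := (gam G (n - 2)).card_mul_index
      rw [T.slim.index_gam hn (n - 2) (by omega) (by omega), show n - 2 + 1 = n - 1 by omega, hn,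
        ← Nat.sub_add_cancel (show 1 ≤ n by omega), pow_succ', Nat.add_sub_cancel] at this
      exact Nat.eq_of_mul_eq_mul_right (pow_pos (by norm_num) _) this
    rw [← eq_of_le_of_card_ge hle ((T.slim.card_inf_le T.lt_card).trans hc1.ge)] at h4
    exact gam_anti (by omega) h4
  set d := w⁻¹ * x⁻¹ * w * x with hd
  set e := d⁻¹ * x⁻¹ * d * x with he
  have hd1 : d ∈ gam G 1 := by
    rw [show d = ⁅w⁻¹, x⁻¹⁆ by simp [hd, commutatorElement_def]]
    exact commutator_mem_commutator (mem_top _) (mem_top _)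
  have hd2 : d ∉ gam G 2 := by
    intro h
    haveI hN : (gam G 2).Normal := by infer_instance
    set f := QuotientGroup.mk' (gam G 2) with hf
    have hxwc : Commute (f x) (f w) := by
      have h1 : f d = 1 := (QuotientGroup.eq_one_iff _).2 h
      simp only [hd, map_mul, map_inv] at h1
      have h2 : f x * f w = f w * f x := by
        calc f x * f w = f x * f w * ((f w)⁻¹ * (f x)⁻¹ * f w * f x) := by rw [h1, mul_one]
          _ = f w * f x := by group
      exact h2
    have hgam : ∀ u ∈ gam G 1, ∀ q, Commute (f u) q := by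
      intro u hu q
      obtain ⟨g, rfl⟩ := QuotientGroup.mk'_surjective (gam G 2) q
      refine commutatorElement_eq_one_iff_commute.1 ?_
      rw [← map_commutatorElement]
      exact (QuotientGroup.eq_one_iff _).2 (comm_mem_gam_succ hu)
    have hgenall : zpowers x ⊔ (zpowers w ⊔ gam G 1) = ⊤ := by
      refine T.slim.sup_eq_top T.lt_card fun hwx => ?_
      obtain ⟨s, hs, c, hc, hsc⟩ := mem_sup_of_normal_right.1 hwx
      obtain ⟨i, rfl : x ^ i = s⟩ := mem_powers_iff_mem_zpowers.2 hs
      have hxi : x ^ i ∈ zpowers a ⊔ gam G 1 := by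
        rw [show x ^ i = w * c⁻¹ by rw [← hsc, mul_inv_cancel_right]]
        exact mul_mem hw (inv_mem (mem_sup_right hc))
      by_cases hi : 3 ∣ i
      · obtain ⟨j, rfl⟩ := hi
        refine hw' ?_
        rw [← hsc, pow_mul]
        exact mul_mem (pow_mem (gam_anti (by norm_num) (hz x hxA)) j) hc
      · refine hxA ?_
        have h3 : x ^ 3 ∈ zpowers a ⊔ gam G 1 := mem_sup_right (gam_anti (by norm_num) (hz x hxA))
        have h4 : x ^ (i % 3) ∈ zpowers a ⊔ gam G 1 := by
          have h5 : x ^ (3 * (i / 3)) ∈ zpowers a ⊔ gam G 1 := by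
            rw [pow_mul]; exact pow_mem h3 _
          have h6 := mul_mem (inv_mem h5) hxi
          have h7 : x ^ i = x ^ (3 * (i / 3)) * x ^ (i % 3) := by rw [← pow_add, Nat.div_add_mod]
          rwa [h7, inv_mul_cancel_left] at h6
        rcases (show i % 3 = 1 ∨ i % 3 = 2 by omega) with h8 | h8 <;> rw [h8] at h4
        · simpa using h4
        · have := mul_mem h3 (inv_mem h4)
          rwa [show x ^ 3 * (x ^ 2)⁻¹ = x by group] at this
    have hcenx : ∀ g, Commute (f x) (f g) := by
      intro g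
      have hle : zpowers x ⊔ (zpowers w ⊔ gam G 1) ≤
          (centralizer ({f x} : Set _)).comap f :=
        sup_le ((zpowers_le).2 (mem_comap.2 (mem_centralizer_singleton_iff.2 rfl)))
          (sup_le ((zpowers_le).2 (mem_comap.2 (mem_centralizer_singleton_iff.2 hxwc.eq.symm)))
            fun u hu => mem_comap.2 (mem_centralizer_singleton_iff.2 (hgam u hu _).eq))
      exact (mem_centralizer_singleton_iff.1 (hle (hgenall ▸ mem_top g))).symm
    obtain ⟨b, hb, hb'⟩ := T.slim.exists_layer hn le_rfl (by omega)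
    obtain ⟨g, hg⟩ := T.slim.exists_conj T.lt_card.le hb
    apply hb'
    rw [← hg, ← QuotientGroup.eq_one_iff, ← QuotientGroup.mk'_apply, map_commutatorElement]
    exact commutatorElement_eq_one_iff_commute.2 (hcenx g).symm
  have he2 : e ∈ gam G 2 ∧ e ∉ gam G 3 := by
    have hxi : x⁻¹ ∉ zpowers a ⊔ gam G 1 := fun h => hxA (by simpa using inv_mem h)
    have h := T.exact hxi le_rfl (by omega) (inv_mem hd1) (fun h => hd2 (by simpa using inv_mem h))
    rw [show e = ⁅x⁻¹, d⁻¹⁆⁻¹ by simp [he, commutatorElement_def, mul_assoc]]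
    exact ⟨inv_mem h.1, fun h' => h.2 (inv_mem_iff.1 h')⟩
  haveI : (gam G 3).Normal := by infer_instance
  set f := QuotientGroup.mk' (gam G 3) with hf
  have hA1 : zpowers a ⊔ gam G 1 ≤ annih G 1 :=
    sup_le ((zpowers_le).2 T.one) (gam_one_le_annih 1)
  have hWcomm : ∀ u ∈ gam G 1, Commute (f w) (f u) := by
    intro u hu
    refine commutatorElement_eq_one_iff_commute.1 ?_
    rw [← map_commutatorElement]
    exact (QuotientGroup.eq_one_iff _).2 (mem_annih.1 (hA1 hw) u hu)
  have hWd := hWcomm d hd1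
  have hWe := hWcomm e (gam_anti (by norm_num) he2.1)
  have hde : Commute (f d) (f e) := commutatorElement_eq_one_iff_commute.1 (by
    rw [← map_commutatorElement]
    exact (QuotientGroup.eq_one_iff _).2 (comm_mem_gam_of hd1 he2.1 (by norm_num)))
  have hx3 : f x ^ 3 = 1 := by rw [← map_pow]; exact (QuotientGroup.eq_one_iff _).2 (hz x hxA)
  have hd3 : f d ^ 3 = 1 := by
    rw [← map_pow]
    exact (QuotientGroup.eq_one_iff _).2 (T.slim.pow_level (by norm_num) hn 1 le_rfl _ hd1).1
  have hxw3 : f (x * w) ^ 3 = 1 := by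
    rw [← map_pow]; exact (QuotientGroup.eq_one_iff _).2 (hz _ hxw)
  have expand : (x * w) ^ 3 = x ^ 3 * (w * d * d * e) * (w * d) * w := by
    simp only [hd, he, pow_succ, pow_zero, one_mul]
    group
  have key : f w ^ 3 * f e = 1 := by
    have h1 := hxw3
    rw [← map_pow, expand] at h1
    simp only [map_mul, map_pow] at h1
    rw [hx3, one_mul] at h1
    set W := f w
    set D := f d
    set E := f e
    calc W ^ 3 * E = W ^ 3 * E * D ^ 3 := by rw [hd3, mul_one]
      _ = W * W * W * (E * D) * D * D := by simp only [pow_succ, pow_zero, one_mul]; group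
      _ = W * W * W * (D * E) * D * D := by rw [hde.eq]
      _ = W * W * (W * D) * (E * D) * D := by group
      _ = W * W * (D * W) * (D * E) * D := by rw [hWd.eq, hde.eq]
      _ = W * (W * D) * (W * D) * (E * D) := by group
      _ = W * (D * W) * (D * W) * (D * E) := by rw [hWd.eq, hde.eq]
      _ = W * D * (W * D) * (W * D) * E := by group
      _ = W * D * (D * W) * (D * W) * E := by rw [hWd.eq]
      _ = W * D * D * (W * D) * (W * E) := by group
      _ = W * D * D * (W * D) * (E * W) := by rw [hWe.eq]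
      _ = W * D * D * (W * (D * E)) * W := by group
      _ = W * D * D * (W * (E * D)) * W := by rw [hde.eq]
      _ = W * D * D * (W * E) * D * W := by group
      _ = W * D * D * (E * W) * D * W := by rw [hWe.eq]
      _ = W * D * D * E * (W * D) * W := by group
      _ = 1 := h1
  have hwe : w ^ 3 * e ∈ gam G 3 := (QuotientGroup.eq_one_iff _).1 (by
    rw [← QuotientGroup.mk'_apply, map_mul, map_pow]; exact key)
  constructor
  · simpa using mul_mem (gam_anti (by norm_num) hwe) (inv_mem he2.1)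
  · exact fun h => he2.2 (by simpa using mul_mem (inv_mem h) hwe)

/-- Every subgroup is generated by two elements. -/
theorem Two.generators (T : Two x a n) (H : Subgroup G) :
    ∃ U : Finset G, U.card ≤ 2 ∧ closure (U : Set G) = H := by
  classical
  haveI := T.slim.pgroup.isNilpotent
  have hn := T.card
  have h5 := T.five
  haveI hAn : (zpowers a ⊔ gam G 1).Normal := normal_of_gam_le le_sup_right
  have hidx : ∀ M : Subgroup G, gam G 1 < M → M.index ≤ 3 := by
    intro M hM
    obtain ⟨j, hj⟩ := T.slim.pgroup.index M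
    have h1 := index_strictAnti hM
    rw [(T.slim.index_eq T.lt_card.le).1, hj, Nat.pow_lt_pow_iff_right (by norm_num)] at h1
    rw [hj]
    exact (Nat.pow_le_pow_right (by norm_num) (show j ≤ 1 by omega)).trans_eq (pow_one 3)
  by_cases htop : H ⊔ gam G 1 = ⊤
  · rw [eq_top_of_sup_gam T.slim.pgroup htop]
    refine ⟨{x, a}, Finset.card_le_two, eq_top_of_sup_gam T.slim.pgroup (top_le_iff.1 ?_)⟩
    rw [← T.slim.sup_eq_top T.lt_card T.notmem]
    exact sup_le ((zpowers_le).2 (mem_sup_left (subset_closure (by simp))))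
      (sup_le ((zpowers_le).2 (mem_sup_left (subset_closure (by simp)))) le_sup_right)
  have hsplit : ∀ h ∈ H, h ∉ gam G 1 → ∀ K : Subgroup G, h ∈ K → H ⊓ gam G 1 ≤ K → H ≤ K := by
    intro h hhH hh K hhK hle w hw
    have h1 : gam G 1 < zpowers h ⊔ gam G 1 :=
      lt_of_le_of_ne le_sup_right fun he => hh (he ▸ mem_sup_left (mem_zpowers h))
    have hle' : zpowers h ⊔ gam G 1 ≤ H ⊔ gam G 1 := sup_le_sup_right ((zpowers_le).2 hhH) _
    have heq : zpowers h ⊔ gam G 1 = H ⊔ gam G 1 := by
      refine hle'.eq_or_lt.resolve_right fun hlt => htop ?_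
      have h3 := index_strictAnti hlt
      have h4 := hidx _ h1
      obtain ⟨j, hj⟩ := T.slim.pgroup.index (H ⊔ gam G 1)
      rw [hj] at h3
      have h5' : 3 ^ j < 3 ^ 1 := by rw [pow_one]; exact h3.trans_le h4
      rw [Nat.pow_lt_pow_iff_right (by norm_num)] at h5'
      exact index_eq_one.1 (by rw [hj, show j = 0 by omega, pow_zero])
    obtain ⟨u, hu, v, hv, rfl⟩ := mem_sup_of_normal_right.1 (heq ▸ mem_sup_left hw :
      w ∈ zpowers h ⊔ gam G 1)
    refine mul_mem ((zpowers_le.2 hhK) hu) (hle ⟨?_, hv⟩)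
    simpa using mul_mem (inv_mem ((zpowers_le.2 hhH) hu)) hw
  let P : ℕ → ℕ → Prop := fun i k => 1 ≤ k ∧ k % 2 = i ∧ ∃ u ∈ H, u ∈ gam G k ∧ u ∉ gam G (k + 1)
  let pick : ℕ → G := fun i => if h : ∃ k, P i k then (Nat.find_spec h).2.2.choose else 1
  have hpick : ∀ i, pick i ∈ H := by
    intro i
    by_cases h : ∃ k, P i k
    · simp only [pick, dif_pos h]; exact (Nat.find_spec h).2.2.choose_spec.1
    · simp only [pick, dif_neg h]; exact one_mem _
  have hchain : ∀ s k (u : G), 1 ≤ k → u ∈ gam G k → u ∉ gam G (k + 1) → k + 2 * s + 2 ≤ n →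
      u ^ 3 ^ s ∈ gam G (k + 2 * s) ∧ u ^ 3 ^ s ∉ gam G (k + 2 * s + 1) := by
    intro s
    induction s with
    | zero => intro k u _ h1 h2 _; simpa using ⟨h1, h2⟩
    | succ s ihs =>
      intro k u hk h1 h2 hb
      obtain ⟨g1, g2⟩ := ihs k u hk h1 h2 (by omega)
      have := T.slim.pow_level (by norm_num) hn (k + 2 * s) (by omega) _ g1
      rw [pow_succ, pow_mul]
      refine ⟨?_, ?_⟩
      · have h' := this.1
        rwa [show k + 2 * s + 3 - 1 = k + 2 * (s + 1) by omega] at h'
      · have h' := this.2 g2 (by omega)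
        rwa [show k + 2 * s + 3 = k + 2 * (s + 1) + 1 by omega] at h'
  -- levels reached by the chosen elements
  have hreach : ∀ K : Subgroup G, ∀ i, pick i ∈ K → ∀ k, 1 ≤ k → k + 2 ≤ n → k % 2 = i →
      (∃ u ∈ H, u ∈ gam G k ∧ u ∉ gam G (k + 1)) →
      ∃ v ∈ K, v ∈ gam G k ∧ v ∉ gam G (k + 1) := by
    intro K i hiK k hk hkn hki hu
    have hex : ∃ l, P i l := ⟨k, hk, hki, hu⟩
    have hs := Nat.find_spec hex
    have hle : Nat.find hex ≤ k := Nat.find_le ⟨hk, hki, hu⟩
    obtain ⟨-, b1, b2⟩ := hs.2.2.choose_spec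
    obtain ⟨s, hs'⟩ : ∃ s, k = Nat.find hex + 2 * s :=
      ⟨(k - Nat.find hex) / 2, by have := hs.2.1; omega⟩
    obtain ⟨g1, g2⟩ := hchain s _ _ hs.1 b1 b2 (by omega)
    rw [← hs'] at g1 g2
    refine ⟨_, pow_mem ?_ (3 ^ s), g1, g2⟩
    simpa only [pick, dif_pos hex] using hiK
  by_cases hHA : H ≤ zpowers a ⊔ gam G 1
  · by_cases hH1 : H ≤ gam G 1
    · refine ⟨{pick 0, pick 1}, Finset.card_le_two, ?_⟩
      have hK : closure (({pick 0, pick 1} : Finset G) : Set G) ≤ H := by
        rw [closure_le]; intro u hu; simp at hu; rcases hu with rfl | rfl <;> exact hpick _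
      refine le_antisymm hK fun u hu => T.slim.le_of_levels hn (by omega) hK (fun k hk hkn hlev => ?_)
        ⟨hu, hH1 hu⟩
      rcases Nat.mod_two_eq_zero_or_one k with h | h
      · exact hreach _ 0 (subset_closure (by simp)) k hk hkn h hlev
      · exact hreach _ 1 (subset_closure (by simp)) k hk hkn h hlev
    obtain ⟨w, hwH, hw⟩ := SetLike.not_le_iff_exists.1 hH1
    refine ⟨{w, pick 1}, Finset.card_le_two, ?_⟩
    set K := closure (({w, pick 1} : Finset G) : Set G) with hKdef
    have hK : K ≤ H := by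
      rw [hKdef, closure_le]; intro u hu; simp at hu; rcases hu with rfl | rfl
      exacts [hwH, hpick _]
    have hwK : w ∈ K := subset_closure (by simp)
    refine le_antisymm hK (hsplit w hwH hw K hwK
      (T.slim.le_of_levels hn (by omega) hK (fun k hk hkn hlev => ?_)))
    rcases Nat.mod_two_eq_zero_or_one k with h | h
    · obtain ⟨c1, c2⟩ := T.cube (hHA hwH) hw
      obtain ⟨g1, g2⟩ := hchain (k / 2 - 1) 2 (w ^ 3) (by norm_num) c1 c2 (by omega)
      rw [show 2 + 2 * (k / 2 - 1) = k by omega] at g1 g2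
      exact ⟨_, pow_mem (pow_mem hwK 3) _, g1, g2⟩
    · exact hreach _ 1 (subset_closure (by simp [hKdef])) k hk hkn h hlev
  obtain ⟨h, hhH, hhA⟩ := SetLike.not_le_iff_exists.1 hHA
  have hh1 : h ∉ gam G 1 := fun hh => hhA (mem_sup_right hh)
  let Q : ℕ → Prop := fun k => 1 ≤ k ∧ k + 2 ≤ n ∧ ∃ u ∈ H, u ∈ gam G k ∧ u ∉ gam G (k + 1)
  by_cases hex : ∃ k, Q k
  · obtain ⟨hk0, hk0n, u, huH, hu, hu'⟩ := Nat.find_spec hex
    refine ⟨{h, u}, Finset.card_le_two, ?_⟩
    set K := closure (({h, u} : Finset G) : Set G) with hKdef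
    have hK : K ≤ H := by
      rw [hKdef, closure_le]; intro v hv; simp at hv; rcases hv with rfl | rfl
      exacts [hhH, huH]
    have hhK : h ∈ K := subset_closure (by simp)
    refine le_antisymm hK (hsplit h hhH hh1 K hhK
      (T.slim.le_of_levels hn (by omega) hK (fun k hk hkn hlev => ?_)))
    have hle : Nat.find hex ≤ k := Nat.find_le ⟨hk, hkn, hlev⟩
    clear hlev
    induction k, hle using Nat.le_induction with
    | base => exact ⟨u, subset_closure (by simp [hKdef]), hu, hu'⟩
    | succ k hk' ih =>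
      obtain ⟨v, hvK, hv, hv'⟩ := ih (by omega) (by omega)
      have := T.exact hhA (by omega : 1 ≤ k) (by omega) hv hv'
      exact ⟨_, mul_mem (mul_mem (mul_mem hhK hvK) (inv_mem hhK)) (inv_mem hvK), this.1, this.2⟩
  · refine ⟨{h}, by simp, ?_⟩
    have hK : closure (({h} : Finset G) : Set G) ≤ H := by rw [closure_le]; simpa using hhH
    refine le_antisymm hK (hsplit h hhH hh1 _ (subset_closure (by simp))
      (T.slim.le_of_levels hn (by omega) hK (fun k hk hkn hlev => absurd ⟨k, hk, hkn, hlev⟩ hex)))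

end CfsgLib.PearlMC
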