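import Mathlib
import Cfsg.Agent.FGSA.PolySeq
import Cfsg.Agent.Solvable.PGroupBasic

/-!
Finite p-groups with an element whose centralizer has order at most `p ^ 2`: the lower central
series has layers of order `p`, `p`-th powers raise the level by exactly `p - 1`, and every subgroup
is generated by at most `p` elements.
-/

set_option autoImplicit false
set_option linter.style.haveILetI false

namespace CfsgLib.PearlMC

open Subgroup CfsgLib.FGSA.PolySeq
open scoped commutatorElement

universe u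

variable {G : Type u} [Group G]

/-- The lower central series of the whole group. -/
abbrev gam (G : Type u) [Group G] (k : ℕ) : Subgroup G := (⊤ : Subgroup G).lowerCentralSeries k

theorem gam_anti {a b : ℕ} (h : a ≤ b) : gam G b ≤ gam G a :=
  (⊤ : Subgroup G).lowerCentralSeries_antitone h

theorem comm_mem_gam_succ {a g : G} {k : ℕ} (ha : a ∈ gam G k) : ⁅a, g⁆ ∈ gam G (k + 1) :=
  commutator_mem_commutator ha (mem_top g)

theorem gam_map {H : Type u} [Group H] (f : G →* H) (hf : Function.Surjective f) (k : ℕ) :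
    (gam G k).map f = gam H k := by
  rw [gam, map_lowerCentralSeries, map_top_of_surjective f hf]

theorem gam_le_center {k : ℕ} (h : gam G (k + 1) = ⊥) : gam G k ≤ center G := fun a ha =>
  mem_center_iff.2 fun g => by
    have h1 : ⁅a, g⁆ ∈ gam G (k + 1) := comm_mem_gam_succ ha
    rw [h, mem_bot, commutatorElement_def, mul_inv_eq_one, mul_inv_eq_iff_eq_mul] at h1
    exact h1.symm

section Finite

variable [Finite G] {p : ℕ} [hp : Fact p.Prime]

/-- A `p`-group with an element whose centralizer has order at most `p ^ 2`. -/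
structure Slim (p : ℕ) (x : G) : Prop where
  pgroup : IsPGroup p G
  card_le : Nat.card (centralizer ({x} : Set G)) ≤ p ^ 2

theorem eq_top_of_sup_gam (hG : IsPGroup p G) {H : Subgroup G} (h : H ⊔ gam G 1 = ⊤) : H = ⊤ := by
  rcases eq_top_or_exists_le_coatom H with rfl | ⟨M, hM, hHM⟩
  · rfl
  exfalso
  obtain ⟨hMn, hMi⟩ := CfsgLib.PGroupBasic.coatom_normal_index hG hM
  haveI := hMn
  haveI : IsCyclic (G ⧸ M) := isCyclic_of_prime_card (p := p) (by rw [← Subgroup.index]; exact hMi)
  have hder : gam G 1 ≤ M := by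
    rw [gam, top_lowerCentralSeries_one]
    exact Subgroup.Normal.quotient_commutative_iff_commutator_le.1
      ⟨⟨(IsCyclic.commGroup (α := G ⧸ M)).mul_comm⟩⟩
  exact hM.1 (top_le_iff.1 (h ▸ sup_le hHM hder))

variable {x : G}

/-- The commutator map on cosets of the centralizer. -/
noncomputable def commMap (x : G) : G ⧸ centralizer ({x} : Set G) → gam G 1 :=
  Quotient.lift (fun g => (⟨⁅g, x⁆, commutator_mem_commutator (mem_top g) (mem_top x)⟩ : gam G 1))
    (fun g h hgh => by
      have hc : g⁻¹ * h ∈ centralizer ({x} : Set G) := QuotientGroup.leftRel_apply.1 hgh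
      have e := mem_centralizer_singleton_iff.1 hc
      apply Subtype.ext
      show ⁅g, x⁆ = ⁅h, x⁆
      have e' : h * x * h⁻¹ = g * x * g⁻¹ := by
        calc h * x * h⁻¹ = g * ((g⁻¹ * h) * x) * h⁻¹ := by group
          _ = g * (x * (g⁻¹ * h)) * h⁻¹ := by rw [e]
          _ = g * x * g⁻¹ := by group
      simp only [commutatorElement_def, e'])

omit [Finite G] in
theorem commMap_injective (x : G) : Function.Injective (commMap x) := by
  intro a b
  refine Quotient.inductionOn₂ a b fun g h e => ?_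
  have e' : g * x * g⁻¹ = h * x * h⁻¹ := by
    have := congrArg Subtype.val e
    simpa [commMap, commutatorElement_def] using this
  refine Quotient.sound (QuotientGroup.leftRel_apply.2 (mem_centralizer_singleton_iff.2 ?_))
  calc g⁻¹ * h * x = g⁻¹ * (h * x * h⁻¹) * h := by group
    _ = g⁻¹ * (g * x * g⁻¹) * h := by rw [e']
    _ = x * (g⁻¹ * h) := by group

theorem card_le_mul (x : G) :
    Nat.card G ≤ Nat.card (centralizer ({x} : Set G)) * Nat.card (gam G 1) := by
  rw [← (centralizer ({x} : Set G)).card_mul_index]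
  exact Nat.mul_le_mul_left _ (Nat.card_le_card_of_injective _ (commMap_injective x))

theorem sq_le_index (hG : IsPGroup p G) (h : p ^ 2 ≤ Nat.card G) : p ^ 2 ≤ (gam G 1).index := by
  obtain ⟨j, hj⟩ := hG.index (gam G 1)
  rw [hj]
  by_contra hlt
  have hj1 : j ≤ 1 := by
    by_contra hc
    exact hlt (Nat.pow_le_pow_right hp.out.pos (by omega))
  haveI hcyc : IsCyclic (G ⧸ gam G 1) := by
    interval_cases j
    · have h1 : Nat.card (G ⧸ gam G 1) = 1 := by rw [← Subgroup.index, hj, pow_zero]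
      haveI := (Nat.card_eq_one_iff_unique.1 h1).1
      exact isCyclic_of_subsingleton
    · exact isCyclic_of_prime_card (p := p) (by rw [← Subgroup.index, hj, pow_one])
  obtain ⟨q, hq⟩ := IsCyclic.exists_generator (α := G ⧸ gam G 1)
  obtain ⟨y, rfl⟩ := QuotientGroup.mk'_surjective (gam G 1) q
  have htop : zpowers y = ⊤ := by
    apply eq_top_of_sup_gam hG
    refine eq_top_iff.2 fun g _ => ?_
    obtain ⟨i, hi⟩ := mem_zpowers_iff.1 (hq (QuotientGroup.mk' (gam G 1) g))
    rw [← map_zpow] at hi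
    have hg : (y ^ i)⁻¹ * g ∈ gam G 1 := QuotientGroup.eq.1 hi
    rw [show g = y ^ i * ((y ^ i)⁻¹ * g) by group]
    exact mul_mem_sup (zpow_mem_zpowers y i) hg
  have hbot : gam G 1 = ⊥ := by
    rw [eq_bot_iff, gam, top_lowerCentralSeries_one, _root_.commutator_def, commutator_le]
    intro a _ b _
    obtain ⟨i, rfl⟩ := mem_zpowers_iff.1 (htop ▸ mem_top a : a ∈ zpowers y)
    obtain ⟨l, rfl⟩ := mem_zpowers_iff.1 (htop ▸ mem_top b : b ∈ zpowers y)
    rw [mem_bot]
    exact commutatorElement_eq_one_iff_commute.2 ((Commute.refl y).zpow_zpow i l)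
  rw [hbot, Subgroup.index_bot] at hj
  exact hlt (hj ▸ h)

theorem Slim.index_eq (S : Slim p x) (h : p ^ 2 ≤ Nat.card G) :
    (gam G 1).index = p ^ 2 ∧ Nat.card (centralizer ({x} : Set G)) = p ^ 2 ∧
      Function.Surjective (commMap x) := by
  have hm := (gam G 1).card_mul_index
  have h1 := sq_le_index S.pgroup h
  have h2 := card_le_mul x
  have h3 := S.card_le
  have hpos : 0 < Nat.card (gam G 1) := Nat.card_pos
  have e1 : (gam G 1).index = p ^ 2 := by
    refine le_antisymm ?_ h1
    refine Nat.le_of_mul_le_mul_left ?_ hpos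
    rw [hm]
    exact h2.trans (by rw [Nat.mul_comm]; exact Nat.mul_le_mul_left _ h3)
  have e2 : Nat.card (centralizer ({x} : Set G)) = p ^ 2 := by
    refine le_antisymm h3 (Nat.le_of_mul_le_mul_right ?_ hpos)
    rw [← e1, Nat.mul_comm, hm]
    exact h2
  refine ⟨e1, e2, ((commMap_injective x).bijective_of_nat_card_le ?_).2⟩
  refine Nat.le_of_mul_le_mul_left ?_ (show 0 < p ^ 2 from pow_pos hp.out.pos 2)
  rw [← Subgroup.index]
  calc p ^ 2 * Nat.card (gam G 1) = Nat.card G := by rw [← e1, Nat.mul_comm, hm]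
    _ ≤ _ := le_of_eq (by rw [← e2, card_mul_index])

theorem Slim.exists_conj (S : Slim p x) (h : p ^ 2 ≤ Nat.card G) {c : G} (hc : c ∈ gam G 1) :
    ∃ g : G, ⁅g, x⁆ = c := by
  obtain ⟨q, hq⟩ := (S.index_eq h).2.2 ⟨c, hc⟩
  obtain ⟨g, rfl⟩ := Quotient.exists_rep q
  exact ⟨g, congrArg Subtype.val hq⟩

theorem Slim.quotient (S : Slim p x) (h : p ^ 2 ≤ Nat.card G) (N : Subgroup G) [N.Normal]
    (hN : N ≤ gam G 1) : Slim p (QuotientGroup.mk' N x) ∧ p ^ 2 ≤ Nat.card (G ⧸ N) := by
  set f := QuotientGroup.mk' N with hf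
  have hsurj : Function.Surjective f := QuotientGroup.mk'_surjective N
  have e : (gam (G ⧸ N) 1).index = p ^ 2 := by
    rw [← gam_map f hsurj 1, index_map_eq _ hsurj (by rw [QuotientGroup.ker_mk']; exact hN)]
    exact (S.index_eq h).1
  refine ⟨⟨S.pgroup.to_quotient N, ?_⟩, e ▸ Nat.le_of_dvd Nat.card_pos (index_dvd_card _)⟩
  have hs : Function.Surjective (commMap (f x)) := by
    rintro ⟨c, hc⟩
    rw [← gam_map f hsurj 1] at hc
    obtain ⟨c', hc', rfl⟩ := hc
    obtain ⟨g, rfl⟩ := S.exists_conj h hc'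
    exact ⟨Quotient.mk _ (f g), Subtype.ext (map_commutatorElement f g x).symm⟩
  have hcard : (centralizer ({f x} : Set (G ⧸ N))).index = Nat.card (gam (G ⧸ N) 1) :=
    Nat.card_eq_of_bijective _ ⟨commMap_injective _, hs⟩
  have h1 := (centralizer ({f x} : Set (G ⧸ N))).card_mul_index
  rw [hcard, ← (gam (G ⧸ N) 1).card_mul_index, e,
    Nat.mul_comm (Nat.card (gam (G ⧸ N) 1))] at h1
  exact le_of_eq (Nat.eq_of_mul_eq_mul_right Nat.card_pos h1)

theorem Slim.not_mem (S : Slim p x) (h : p ^ 2 < Nat.card G) : x ∉ gam G 1 := by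
  intro hx
  obtain ⟨n, hn⟩ := IsPGroup.iff_card.1 S.pgroup
  haveI := S.pgroup.isNilpotent
  obtain ⟨k, hk⟩ := Subgroup.nilpotent_iff_lowerCentralSeries.1 ‹Group.IsNilpotent G›
  have hall : gam G 1 ≤ gam G 2 := fun c hc => by
    obtain ⟨g, rfl⟩ := S.exists_conj h.le hc
    rw [← commutatorElement_inv]
    exact inv_mem (comm_mem_gam_succ hx)
  have hstab : ∀ j, gam G 1 ≤ gam G (j + 1) := by
    intro j
    induction j with
    | zero => exact le_rfl
    | succ j ih => exact hall.trans (commutator_mono ih le_rfl)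
  have hbot : gam G 1 = ⊥ := le_bot_iff.1 ((hstab k).trans ((gam_anti (Nat.le_succ k)).trans hk.le))
  have := (S.index_eq h.le).1
  rw [hbot, index_bot] at this
  omega

theorem Slim.card_inf_le (S : Slim p x) (h : p ^ 2 < Nat.card G) :
    Nat.card (centralizer ({x} : Set G) ⊓ gam G 1 : Subgroup G) ≤ p := by
  obtain ⟨i, hi, hi'⟩ := (Nat.dvd_prime_pow hp.out).1
    ((S.index_eq h.le).2.1 ▸ card_dvd_of_le
      (inf_le_left : centralizer ({x} : Set G) ⊓ gam G 1 ≤ centralizer ({x} : Set G)))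
  interval_cases i
  · rw [hi', pow_zero]; exact hp.out.pos
  · rw [hi', pow_one]
  · exfalso
    have e := eq_of_le_of_card_ge
      (inf_le_left : centralizer ({x} : Set G) ⊓ gam G 1 ≤ centralizer ({x} : Set G))
      (by rw [hi', (S.index_eq h.le).2.1])
    have hx : x ∈ centralizer ({x} : Set G) := mem_centralizer_singleton_iff.2 rfl
    rw [← e] at hx
    exact S.not_mem h hx.2

theorem Slim.inf_eq (S : Slim p x) (h : p ^ 2 < Nat.card G) :
    centralizer ({x} : Set G) ⊓ gam G 1 = center G ⊓ gam G 1 := by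
  haveI := S.pgroup.isNilpotent
  refine (eq_of_le_of_card_ge (inf_le_inf_right _ (center_le_centralizer _)) ?_).symm
  refine (S.card_inf_le h).trans ?_
  have hne : gam G 1 ≠ ⊥ := by
    intro hb
    have := (S.index_eq h.le).1
    rw [hb, index_bot] at this
    omega
  have h2 : center G ⊓ gam G 1 ≠ ⊥ := inf_comm (center G) (gam G 1) ▸
    CfsgLib.PGroupBasic.inf_center_ne_bot (gam G 1) hne
  obtain ⟨i, hi⟩ := IsPGroup.iff_card.1 (S.pgroup.to_subgroup (center G ⊓ gam G 1))
  rw [hi]
  refine Nat.le_self_pow ?_ p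
  rintro rfl
  rw [pow_zero] at hi
  exact h2 (eq_bot_of_card_eq _ hi)

/-- The layers of the lower central series have order `p`. -/
theorem Slim.index_gam (S : Slim p x) {n : ℕ} (hn : Nat.card G = p ^ n) :
    ∀ k, 1 ≤ k → k + 1 ≤ n → (gam G k).index = p ^ (k + 1) := by
  intro k hk
  induction k, hk using Nat.le_induction with
  | base => exact fun h => (S.index_eq (hn ▸ Nat.pow_le_pow_right hp.out.pos h)).1
  | succ k hk ih =>
    intro hkn
    haveI := S.pgroup.isNilpotent
    have hsq : p ^ 2 ≤ Nat.card G := hn ▸ Nat.pow_le_pow_right hp.out.pos (by omega)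
    have e := ih (by omega)
    have hne : gam G k ≠ ⊥ := by
      intro hb
      rw [hb, index_bot, hn] at e
      have := Nat.pow_right_injective hp.out.two_le e
      omega
    have hlt : gam G (k + 1) < gam G k := by
      refine (gam_anti (Nat.le_succ k)).lt_of_ne fun he => hne ?_
      obtain ⟨c, hc⟩ := Subgroup.nilpotent_iff_lowerCentralSeries.1 ‹Group.IsNilpotent G›
      have : ∀ j, gam G k ≤ gam G (k + j) := by
        intro j
        induction j with
        | zero => exact le_rfl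
        | succ j ihj => exact he.ge.trans (commutator_mono ihj le_rfl)
      exact le_bot_iff.1 ((this c).trans ((gam_anti (Nat.le_add_left c k)).trans hc.le))
    set f := QuotientGroup.mk' (gam G (k + 1)) with hf
    obtain ⟨SQ, hQ⟩ := S.quotient hsq (gam G (k + 1)) (gam_anti (by omega))
    have hsurj : Function.Surjective f := QuotientGroup.mk'_surjective _
    have hbot : gam (G ⧸ gam G (k + 1)) (k + 1) = ⊥ := by
      rw [← gam_map f hsurj, Subgroup.map_eq_bot_iff, QuotientGroup.ker_mk']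
    have hne' : gam (G ⧸ gam G (k + 1)) k ≠ ⊥ := by
      rw [← gam_map f hsurj, Ne, Subgroup.map_eq_bot_iff, QuotientGroup.ker_mk']
      exact hlt.not_ge
    have hlt' : p ^ 2 < Nat.card (G ⧸ gam G (k + 1)) := by
      refine lt_of_le_of_ne hQ fun hc => hne' ?_
      have h1 : gam (G ⧸ gam G (k + 1)) 1 = ⊥ := by
        have h2 := (SQ.index_eq hQ).1
        rw [hc] at h2
        exact eq_bot_of_card_eq _ (Nat.eq_of_mul_eq_mul_right Nat.card_pos
          (h2 ▸ (gam (G ⧸ gam G (k + 1)) 1).card_mul_index.trans (one_mul _).symm))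
      exact le_bot_iff.1 ((gam_anti hk).trans h1.le)
    have hcard : Nat.card (gam (G ⧸ gam G (k + 1)) k) ≤ p :=
      (card_le_of_le ((le_inf (gam_le_center hbot) (gam_anti hk)).trans (SQ.inf_eq hlt').ge)).trans
        (SQ.card_inf_le hlt')
    have hrel : (gam G (k + 1)).relIndex (gam G k) ≤ p := by
      refine le_trans (le_of_eq ?_) hcard
      rw [← gam_map f hsurj, ← relIndex_bot_left (Subgroup.map f (gam G k))]
      rw [show (⊥ : Subgroup (G ⧸ gam G (k + 1))) = (gam G (k + 1)).map f from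
        ((Subgroup.map_eq_bot_iff _).2 (by rw [QuotientGroup.ker_mk'])).symm,
        relIndex_map_map, QuotientGroup.ker_mk', sup_idem, sup_eq_left.2 (gam_anti (Nat.le_succ k))]
    obtain ⟨j, hj⟩ := S.pgroup.index (gam G (k + 1))
    have hm := relIndex_mul_index (gam_anti (G := G) (Nat.le_succ k))
    rw [e] at hm
    rw [hj] at hm ⊢
    have hup : p ^ j ≤ p ^ (k + 2) := by
      rw [← hm, pow_succ' p (k + 1)]
      exact Nat.mul_le_mul_right _ hrel
    have hlow : p ^ (k + 1) < p ^ j := by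
      rw [← e, ← hj]
      exact index_strictAnti hlt
    rw [Nat.pow_le_pow_iff_right hp.out.one_lt] at hup
    rw [Nat.pow_lt_pow_iff_right hp.out.one_lt] at hlow
    congr 1
    omega

theorem Slim.gam_ne_bot (S : Slim p x) {n : ℕ} (hn : Nat.card G = p ^ n) {k : ℕ} (hk : k + 2 ≤ n) :
    gam G k ≠ ⊥ := by
  intro hb
  rcases Nat.eq_zero_or_pos k with rfl | hk0
  · have : Nat.card G = 1 := by
      rw [← card_top (G := G), show (⊤ : Subgroup G) = ⊥ from hb, card_bot]
    rw [hn, Nat.pow_eq_one] at this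
    rcases this with h | h
    · exact hp.out.one_lt.ne' h
    · omega
  · have e := S.index_gam hn k hk0 (by omega)
    rw [hb, index_bot, hn] at e
    have := Nat.pow_right_injective hp.out.two_le e
    omega

theorem Slim.gam_eq_bot (S : Slim p x) {n : ℕ} (hn : Nat.card G = p ^ n) (h2 : 2 ≤ n) {k : ℕ}
    (hk : n ≤ k + 1) : gam G k = ⊥ := by
  refine le_bot_iff.1 ((gam_anti (show n - 1 ≤ k by omega)).trans (le_of_eq ?_))
  have e := S.index_gam hn (n - 1) (by omega) (by omega)
  rw [show n - 1 + 1 = n by omega] at e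
  refine eq_bot_of_card_eq _ (Nat.eq_of_mul_eq_mul_right (pow_pos hp.out.pos n) ?_)
  rw [one_mul]
  conv_lhs => rw [← e]
  rw [card_mul_index, hn]

/-- Commutation with `x` lowers the level by exactly one. -/
theorem Slim.comm_level (S : Slim p x) (h : p ^ 2 < Nat.card G) {k : ℕ} (hk : 1 ≤ k) {a : G}
    (ha : a ∈ gam G k) (ha' : a ∉ gam G (k + 1)) (hne : gam G (k + 1) ≠ ⊥) :
    ⁅a⁻¹, x⁆ ∈ gam G (k + 1) ∧ ⁅a⁻¹, x⁆ ∉ gam G (k + 2) := by
  refine ⟨comm_mem_gam_succ (inv_mem ha), fun hc => ?_⟩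
  haveI := S.pgroup.isNilpotent
  set f := QuotientGroup.mk' (gam G (k + 2)) with hf
  have hsurj : Function.Surjective f := QuotientGroup.mk'_surjective _
  obtain ⟨SQ, hQ⟩ := S.quotient h.le (gam G (k + 2)) (gam_anti (by omega))
  have hbot : gam (G ⧸ gam G (k + 2)) (k + 2) = ⊥ := by
    rw [← gam_map f hsurj, Subgroup.map_eq_bot_iff, QuotientGroup.ker_mk']
  have hlt2 : gam G (k + 2) < gam G (k + 1) := by
    refine (gam_anti (Nat.le_succ _)).lt_of_ne fun he => hne ?_
    obtain ⟨c, hc'⟩ := Subgroup.nilpotent_iff_lowerCentralSeries.1 ‹Group.IsNilpotent G›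
    have : ∀ j, gam G (k + 1) ≤ gam G (k + 1 + j) := by
      intro j
      induction j with
      | zero => exact le_rfl
      | succ j ihj => exact he.ge.trans (commutator_mono ihj le_rfl)
    exact le_bot_iff.1 ((this c).trans ((gam_anti (Nat.le_add_left c _)).trans hc'.le))
  have hne' : gam (G ⧸ gam G (k + 2)) (k + 1) ≠ ⊥ := by
    rw [← gam_map f hsurj, Ne, Subgroup.map_eq_bot_iff, QuotientGroup.ker_mk']
    exact hlt2.not_ge
  have hlt : p ^ 2 < Nat.card (G ⧸ gam G (k + 2)) := by
    refine lt_of_le_of_ne hQ fun hc' => hne' ?_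
    obtain ⟨m, hm⟩ := IsPGroup.iff_card.1 SQ.pgroup
    have : m = 2 := Nat.pow_right_injective hp.out.two_le (hm.symm.trans hc'.symm)
    exact SQ.gam_eq_bot hm (by omega) (by omega)
  have hfa : f a ∈ centralizer ({f x} : Set _) ⊓ gam (G ⧸ gam G (k + 2)) 1 := by
    refine ⟨mem_centralizer_singleton_iff.2 ?_, gam_map f hsurj 1 ▸
      mem_map_of_mem f (gam_anti hk ha)⟩
    have h1 : f ⁅a⁻¹, x⁆ = 1 := (QuotientGroup.eq_one_iff _).2 hc
    rw [map_commutatorElement, commutatorElement_eq_one_iff_commute, map_inv] at h1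
    exact (Commute.inv_left_iff.1 h1).eq
  have heq : gam (G ⧸ gam G (k + 2)) (k + 1) =
      centralizer ({f x} : Set _) ⊓ gam (G ⧸ gam G (k + 2)) 1 := by
    refine eq_of_le_of_card_ge ((le_inf (gam_le_center hbot) (gam_anti (by omega))).trans
      (SQ.inf_eq hlt).ge) ((SQ.card_inf_le hlt).trans ?_)
    obtain ⟨i, hi⟩ := IsPGroup.iff_card.1 (SQ.pgroup.to_subgroup (gam (G ⧸ gam G (k + 2)) (k + 1)))
    rw [hi]
    refine Nat.le_self_pow ?_ p
    rintro rfl
    rw [pow_zero] at hi
    exact hne' (eq_bot_of_card_eq _ hi)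
  rw [← heq, ← gam_map f hsurj (k + 1), mem_map] at hfa
  obtain ⟨b, hb, hbe⟩ := hfa
  have hba : b⁻¹ * a ∈ gam G (k + 2) := QuotientGroup.eq.1 hbe
  exact ha' (by simpa using mul_mem hb (gam_anti (Nat.le_succ _) hba))

theorem Slim.pow_prime_central (S : Slim p x) (h : p ^ 2 < Nat.card G) : x ^ p ∈ center G := by
  have hxp : x ^ p ∈ gam G 1 := by
    by_contra hc
    have e := (S.index_eq h.le).1
    have ho : orderOf (QuotientGroup.mk' (gam G 1) x) = p ^ (1 + 1) := by
      refine orderOf_eq_prime_pow (p := p) ?_ ?_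
      · rw [pow_one, ← map_pow]
        exact fun hh => hc ((QuotientGroup.eq_one_iff _).1 hh)
      · rw [show 1 + 1 = 2 from rfl, ← e, Subgroup.index]
        exact pow_card_eq_one'
    haveI : IsCyclic (G ⧸ gam G 1) :=
      isCyclic_of_orderOf_eq_card (QuotientGroup.mk' (gam G 1) x) (by rw [ho, ← Subgroup.index, e])
    obtain ⟨q, hq⟩ := IsCyclic.exists_generator (α := G ⧸ gam G 1)
    obtain ⟨y, rfl⟩ := QuotientGroup.mk'_surjective (gam G 1) q
    have htop : zpowers y = ⊤ := by
      apply eq_top_of_sup_gam S.pgroup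
      refine eq_top_iff.2 fun g _ => ?_
      obtain ⟨i, hi⟩ := mem_zpowers_iff.1 (hq (QuotientGroup.mk' (gam G 1) g))
      rw [← map_zpow] at hi
      rw [show g = y ^ i * ((y ^ i)⁻¹ * g) by group]
      exact mul_mem_sup (zpow_mem_zpowers y i) (QuotientGroup.eq.1 hi)
    have hC : centralizer ({x} : Set G) = ⊤ := by
      refine eq_top_iff.2 fun g _ => mem_centralizer_singleton_iff.2 ?_
      obtain ⟨i, hi⟩ := mem_zpowers_iff.1 (htop ▸ mem_top g : g ∈ zpowers y)
      obtain ⟨l, hl⟩ := mem_zpowers_iff.1 (htop ▸ mem_top x : x ∈ zpowers y)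
      rw [← hi, ← hl, zpow_mul_comm]
    have := S.card_le
    rw [hC, card_top] at this
    omega
  have : x ^ p ∈ centralizer ({x} : Set G) ⊓ gam G 1 :=
    ⟨mem_centralizer_singleton_iff.2 (Commute.pow_self x p).eq, hxp⟩
  rw [S.inf_eq h] at this
  exact this.1

end Finite

end CfsgLib.PearlMC
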