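import Cfsg.Agent.PearlMC.Small
import Cfsg.Agent.Fusion.Alperin

/-!
Automizers of pearls for the prime `3`.
-/

set_option autoImplicit false
set_option linter.style.haveILetI false

open Cfsg Cfsg.FusionSystem
open scoped commutatorElement

namespace CfsgLib.PearlMC

open CfsgLib.Fusion

universe u

variable {Ω : Type u} [Group Ω] {S : Subgroup Ω} {F : FusionSystem S}

/-- An essential subgroup is proper. -/
theorem ne_of_essential [Finite S] (p : ℕ) [Fact p.Prime] (hS : IsPGroup p S) (hF : F.IsSaturated p)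
    {E : Subgroup Ω} (hE : F.IsEssential p E) : E ≠ S := by
  intro hES
  obtain ⟨hc, hn, hnorm, Y, hY⟩ := hE
  haveI := finite_of_le hc.1
  haveI : Finite (MulAut E) := finite_mulAut
  obtain ⟨⟨-, R, hR⟩, -⟩ := good_of_fullyNormalized p hS hF hn
  have h1 : (R : Subgroup (F.autGroup E)) = (Inn E).subgroupOf (F.autGroup E) := by
    rw [hR, inn_eq_autInducedBy, hES]
  refine R.not_dvd_index ?_
  rw [h1, Subgroup.index]
  exact hY.1

/-- Inversion on an elementary abelian pearl of order `9` extends to a larger subgroup. -/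
theorem inversion_extends [Finite S] [Fact (Nat.Prime 3)] (hS : IsPGroup 3 S) (hF : F.IsSaturated 3)
    {E : Subgroup Ω} (hE : F.IsEssential 3 E) (hcard : Nat.card E = 9)
    (hexp : ∀ e : E, e ^ 3 = 1) (hab : ∀ e f : E, e * f = f * e)
    {y : Ω} (hy : y ∈ S) (hyE : y ∉ E) (hyn : y ∈ Subgroup.normalizer (E : Set Ω))
    (hcomm : ∀ e : E, ∃ z : E, (z : Ω) = y * e * y⁻¹ * (e : Ω)⁻¹ ∧ y * (z : Ω) = z * y) :
    ∃ (Q : Subgroup Ω) (hEQ : E < Q) (φ : Q →* Ω), φ ∈ F.Hom Q ∧
      ∀ e : E, φ (Subgroup.inclusion hEQ.le e) = (e : Ω)⁻¹ := by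
  classical
  have hES := hE.1.1
  haveI := finite_of_le hES
  haveI : Finite (MulAut E) := finite_mulAut
  set c : MulAut E := conjAut S E ⟨y, hy, hyn⟩ with hc
  have hc' : ∀ e : E, ((c e : E) : Ω) = y * e * y⁻¹ := fun e => coe_conjAut S E ⟨y, hy, hyn⟩ e
  have hcind : c ∈ autInducedBy S E := mem_autInducedBy.2 ⟨y, hy, hc'⟩
  have hcinn : c ∉ Inn E := fun h => hyE ((inn_mem_iff hE.1 hy hc').1 h)
  have hcA : c ∈ F.autGroup E := autInducedBy_le_autGroup hES hcind
  -- `c` moves every element by an element it fixes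
  have hstep : ∀ e : E, ∃ z : E, c e = z * e ∧ c z = z := by
    intro e
    obtain ⟨z, hz, hzy⟩ := hcomm e
    refine ⟨z, Subtype.ext ?_, Subtype.ext ?_⟩
    · rw [hc', Subgroup.coe_mul, hz, inv_mul_cancel_right]
    · rw [hc', hzy, mul_inv_cancel_right]
  have hnontriv : c ≠ 1 := fun h => hcinn (h ▸ one_mem _)
  -- a moved element
  obtain ⟨w₀, hw₀⟩ : ∃ w : E, c w ≠ w := by
    by_contra hcon
    push Not at hcon
    exact hnontriv (MulEquiv.ext hcon)
  obtain ⟨z, hz, hzc⟩ := hstep w₀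
  have hz1 : z ≠ 1 := fun h => hw₀ (by rw [hz, h, one_mul])
  -- every fixed element is a power of `z`
  have hgen : ∀ u v : E, u ≠ 1 → (∀ i : ℕ, u ^ i ≠ v) → ∀ e : E, ∃ i j : ℕ, e = u ^ i * v ^ j := by
    intro u v hu huv e
    have hlt : Subgroup.zpowers u < Subgroup.zpowers u ⊔ Subgroup.zpowers v := by
      refine lt_of_le_of_ne le_sup_left fun h => ?_
      have hv : v ∈ Subgroup.zpowers u := h ▸ Subgroup.mem_sup_right (Subgroup.mem_zpowers v)
      obtain ⟨i, hi⟩ := mem_powers_iff_mem_zpowers.2 hv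
      exact huv i hi
    have h1 : Nat.card (Subgroup.zpowers u) = 3 := by
      rw [Nat.card_zpowers, orderOf_eq_prime (hexp u) hu]
    have h2 := (Subgroup.zpowers u ⊔ Subgroup.zpowers v).card_subgroup_dvd_card
    rw [hcard] at h2
    have h3 : Nat.card (Subgroup.zpowers u) <
        Nat.card (Subgroup.zpowers u ⊔ Subgroup.zpowers v : Subgroup E) :=
      lt_of_le_of_ne (Subgroup.card_le_of_le hlt.le) fun h =>
        hlt.ne (Subgroup.eq_of_le_of_card_ge hlt.le h.ge)
    have h4 : Nat.card (Subgroup.zpowers u ⊔ Subgroup.zpowers v : Subgroup E) = 9 := by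
      obtain ⟨i, hi, hi'⟩ := (Nat.dvd_prime_pow Nat.prime_three).1
        (show Nat.card (Subgroup.zpowers u ⊔ Subgroup.zpowers v : Subgroup E) ∣ 3 ^ 2 by simpa using h2)
      rw [h1, hi'] at h3
      interval_cases i <;> simp_all
    have h5 := Subgroup.eq_top_of_card_eq _ (h4.trans hcard.symm)
    let L : Subgroup E :=
      { carrier := {e | ∃ i j : ℕ, e = u ^ i * v ^ j}
        one_mem' := ⟨0, 0, by simp⟩
        mul_mem' := by
          rintro _ _ ⟨i, j, rfl⟩ ⟨k, l, rfl⟩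
          exact ⟨i + k, j + l, by rw [pow_add, pow_add, mul_assoc, ← mul_assoc (v ^ j),
            hab (v ^ j) (u ^ k)]; simp [mul_assoc]⟩
        inv_mem' := by
          rintro _ ⟨i, j, rfl⟩
          refine ⟨2 * i, 2 * j, inv_eq_of_mul_eq_one_right ?_⟩
          rw [mul_assoc, ← mul_assoc (v ^ j), hab (v ^ j) (u ^ (2 * i)), mul_assoc, ← mul_assoc (u ^ i),
            ← pow_add, ← pow_add, show i + 2 * i = 3 * i by ring, show j + 2 * j = 3 * j by ring,
            pow_mul, pow_mul, hexp, hexp, one_pow, one_pow, one_mul] }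
    have : Subgroup.zpowers u ⊔ Subgroup.zpowers v ≤ L := sup_le
      ((Subgroup.zpowers_le).2 ⟨1, 0, by simp⟩) ((Subgroup.zpowers_le).2 ⟨0, 1, by simp⟩)
    exact this (h5 ▸ Subgroup.mem_top e)
  have hzw : ∀ i : ℕ, z ^ i ≠ w₀ := by
    intro i h
    exact hw₀ (by rw [← h, map_pow, hzc])
  have hfix : ∀ e : E, c e = e → ∃ i : ℕ, z ^ i = e := by
    intro e he
    obtain ⟨i, j, rfl⟩ := hgen z w₀ hz1 hzw e
    rw [map_mul, map_pow, map_pow, hzc, hz] at he
    have hj := mul_left_cancel he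
    rw [Commute.mul_pow (hab z w₀)] at hj
    have hj' : z ^ j = 1 := mul_eq_right.1 hj
    have h3 : 3 ∣ j := by
      rw [← orderOf_eq_prime (hexp z) hz1]; exact orderOf_dvd_of_pow_eq_one hj'
    obtain ⟨l, rfl⟩ := h3
    exact ⟨i, by rw [pow_mul, hexp, one_pow, mul_one]⟩
  -- the radical gives a second transvection
  have hrad := (isRadical_of_essential 3 hS hE).2
  have hInn : Inn E = ⊥ := by
    rw [eq_bot_iff]
    rintro _ ⟨g, rfl⟩
    rw [Subgroup.mem_bot]
    refine MulEquiv.ext fun e => Subtype.ext ?_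
    simp [hab g e]
  obtain ⟨γ, hγA, hγ⟩ : ∃ γ ∈ F.autGroup E, γ * c * γ⁻¹ ∉ Subgroup.zpowers c := by
    by_contra hcon
    push Not at hcon
    let C : Subgroup (F.autGroup E) := Subgroup.zpowers ⟨c, hcA⟩
    have hCn : C.Normal := ⟨fun a ha g => by
      obtain ⟨i, rfl⟩ := Subgroup.mem_zpowers_iff.1 ha
      rw [← conj_zpow]
      refine Subgroup.zpow_mem _ ?_ i
      obtain ⟨j, hj⟩ := Subgroup.mem_zpowers_iff.1 (hcon g g.2)
      exact Subgroup.mem_zpowers_iff.2 ⟨j, Subtype.ext (by simpa using hj)⟩⟩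
    have hc3 : c ^ 3 = 1 := by
      refine MulEquiv.ext fun e => ?_
      obtain ⟨z', hz', hz'c⟩ := hstep e
      show c (c (c e)) = e
      rw [hz', map_mul, hz'c, hz', map_mul, map_mul, hz'c, hz', ← mul_assoc, ← mul_assoc,
        show z' * z' * z' = z' ^ 3 by simp [pow_succ], hexp, one_mul]
    have hCp : IsPGroup 3 C := by
      refine IsPGroup.of_card (n := 1) ?_
      rw [Nat.card_zpowers, pow_one]
      exact orderOf_eq_prime (Subtype.ext (by simpa using hc3))
        (fun h => hnontriv (congrArg Subtype.val h))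
    have hle := CfsgLib.Solvable.le_pCore 3 hCn hCp
    have : c ∈ Inn E := by
      rw [← hrad]
      exact ⟨⟨c, hcA⟩, hle (Subgroup.mem_zpowers _), rfl⟩
    exact hcinn this
  set w : E := γ z with hw
  set β : MulAut E := γ * c * γ⁻¹ with hβ
  have hβA : β ∈ F.autGroup E := mul_mem (mul_mem hγA hcA) (inv_mem hγA)
  have hw1 : w ≠ 1 := fun h => hz1 (γ.injective (by rw [← hw, h, map_one]))
  have hβw : β w = w := by simp [hβ, hw, hzc]
  -- `w` is not fixed by `c`
  have hcw : c w ≠ w := by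
    intro h
    obtain ⟨i, hi⟩ := hfix w h
    apply hγ
    -- `β` fixes `z`
    have hi3 : ¬ 3 ∣ i := by
      rintro ⟨l, rfl⟩
      exact hw1 (by rw [← hi, pow_mul, hexp, one_pow])
    have hzβ : β z = z := by
      have h4 : β (z ^ (i % 3)) = z ^ (i % 3) := by
        have h5 : z ^ i = z ^ (i % 3) := by
          conv_lhs => rw [← Nat.div_add_mod i 3, pow_add, pow_mul, hexp, one_pow, one_mul]
        rw [← h5, hi, hβw]
      rcases (show i % 3 = 1 ∨ i % 3 = 2 by omega) with h8 | h8 <;> rw [h8] at h4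
      · simpa using h4
      · have h9 : (z ^ 2)⁻¹ = z := inv_eq_of_mul_eq_one_right (by rw [← pow_succ, hexp])
        rw [← h9, map_inv, h4]
    -- hence `β` is a power of `c`
    obtain ⟨i', j', hv⟩ := hgen z w₀ hz1 hzw (β w₀)
    have hβ3 : β ^ 3 = 1 := by
      have hc3 : c ^ 3 = 1 := by
        refine MulEquiv.ext fun e => ?_
        obtain ⟨z', hz', hz'c⟩ := hstep e
        show c (c (c e)) = e
        rw [hz', map_mul, hz'c, hz', map_mul, map_mul, hz'c, hz', ← mul_assoc, ← mul_assoc,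
          show z' * z' * z' = z' ^ 3 by simp [pow_succ], hexp, one_mul]
      rw [hβ, conj_pow, hc3, mul_one, mul_inv_cancel]
    have hjj : z ^ (i' + j' * i' + j' * j' * i') * w₀ ^ (j' * j' * j') = w₀ := by
      have h := congrArg (fun f : MulAut E => f w₀) hβ3
      have h' : β (β (β w₀)) = w₀ := h
      rw [hv, map_mul, map_pow, map_pow, hzβ, hv, map_mul, map_pow, map_pow, map_mul, map_pow, map_pow,
        hzβ, hv] at h'
      have hmp : ∀ (p q : E) (k : ℕ), (p * q) ^ k = p ^ k * q ^ k := fun p q k =>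
        Commute.mul_pow (hab p q) k
      simp only [hmp, ← pow_mul] at h'
      conv_rhs => rw [← h']
      simp only [← mul_assoc, ← pow_add]
      ring_nf
    have hone : ∀ a b : ℕ, z ^ a * w₀ ^ b = w₀ → b % 3 = 1 := by
      intro a b hb
      by_contra hb1
      have h5 : w₀ ^ b = w₀ ^ (b % 3) := by
        conv_lhs => rw [← Nat.div_add_mod b 3, pow_add, pow_mul, hexp, one_pow, one_mul]
      rw [h5] at hb
      rcases (show b % 3 = 0 ∨ b % 3 = 2 by omega) with h8 | h8 <;> rw [h8] at hb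
      · exact hzw a (by simpa using hb)
      · have h9 : z ^ (2 * a) = w₀ := by
          have h10 : z ^ a * w₀ = 1 := by
            rw [pow_two, ← mul_assoc] at hb
            exact mul_eq_right.1 hb
          rw [eq_inv_of_mul_eq_one_right h10]
          refine eq_inv_of_mul_eq_one_left ?_
          rw [← pow_add, show 2 * a + a = 3 * a by ring, pow_mul, hexp, one_pow]
        exact hzw _ h9
    have hb := hone _ _ hjj
    have hj1 : j' % 3 = 1 := by
      rcases (show j' % 3 = 0 ∨ j' % 3 = 1 ∨ j' % 3 = 2 by omega) with h8 | h8 | h8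
      · simp [Nat.mul_mod, h8] at hb
      · exact h8
      · simp [Nat.mul_mod, h8] at hb
    have hwj : w₀ ^ j' = w₀ := by
      conv_lhs => rw [← Nat.div_add_mod j' 3, pow_add, pow_mul, hexp, one_pow, one_mul, hj1, pow_one]
    rw [hwj] at hv
    refine Subgroup.mem_zpowers_iff.2 ⟨(i' : ℤ), ?_⟩
    rw [zpow_natCast]
    have hck : ∀ k : ℕ, (c ^ k) z = z ∧ (c ^ k) w₀ = z ^ k * w₀ := by
      intro k
      induction k with
      | zero => simp
      | succ k ih =>
        rw [pow_succ']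
        refine ⟨by rw [MulAut.mul_apply, ih.1, hzc], ?_⟩
        rw [MulAut.mul_apply, ih.2, map_mul, map_pow, hzc, hz, pow_succ, mul_assoc]
    refine MulEquiv.ext fun e => ?_
    obtain ⟨a, b, rfl⟩ := hgen z w₀ hz1 hzw e
    rw [map_mul, map_pow, map_pow, map_mul, map_pow, map_pow, (hck i').1, (hck i').2, hzβ, hv]
  -- normalised transvections
  obtain ⟨d, hd, hdfix⟩ := hstep w
  obtain ⟨a, ha⟩ := hfix d hdfix
  have ha3 : ¬ 3 ∣ a := by
    rintro ⟨l, rfl⟩
    exact hcw (by rw [hd, ← ha, pow_mul, hexp, one_pow, one_mul])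
  obtain ⟨u', hu'⟩ : ∃ u, γ u = z := ⟨γ.symm z, γ.apply_symm_apply z⟩
  obtain ⟨d', hd', hd'fix⟩ := hstep u'
  obtain ⟨b, hb⟩ := hfix d' hd'fix
  have hβz : β z = w ^ b * z := by
    rw [hβ, MulAut.mul_apply, MulAut.mul_apply, ← hu', MulAut.inv_apply_self, hd', map_mul, ← hb,
      map_pow, hw, hu']
  have hb3 : ¬ 3 ∣ b := by
    rintro ⟨l, rfl⟩
    have hcu : c u' = u' := by rw [hd', ← hb, pow_mul, hexp, one_pow, one_mul]
    obtain ⟨i, hi⟩ := hfix u' hcu
    -- then `z` is a power of `w`, so is fixed by `c`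
    have hzw' : z = w ^ i := by rw [← hu', ← hi, map_pow]
    have hi3 : ¬ 3 ∣ i := by
      rintro ⟨m, rfl⟩
      exact hz1 (by rw [hzw', pow_mul, hexp, one_pow])
    apply hcw
    have h4 : c (w ^ (i % 3)) = w ^ (i % 3) := by
      have h5 : w ^ i = w ^ (i % 3) := by
        conv_lhs => rw [← Nat.div_add_mod i 3, pow_add, pow_mul, hexp, one_pow, one_mul]
      rw [← h5, ← hzw', hzc]
    rcases (show i % 3 = 1 ∨ i % 3 = 2 by omega) with h8 | h8 <;> rw [h8] at h4
    · simpa using h4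
    · have h9 : (w ^ 2)⁻¹ = w := inv_eq_of_mul_eq_one_right (by rw [← pow_succ, hexp])
      rw [← h9, map_inv, h4]
  have hsq : ∀ {v : E} {k : ℕ}, ¬ 3 ∣ k → v ^ (k * k) = v := by
    intro v k hk
    have h : k * k % 3 = 1 := by
      rcases (show k % 3 = 1 ∨ k % 3 = 2 by omega) with h8 | h8 <;> simp [Nat.mul_mod, h8]
    conv_lhs => rw [← Nat.div_add_mod (k * k) 3, pow_add, pow_mul, hexp, one_pow, one_mul, h, pow_one]
  have hck : ∀ k : ℕ, (c ^ k) z = z ∧ (c ^ k) w = (z ^ a) ^ k * w := by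
    intro k
    induction k with
    | zero => simp
    | succ k ih =>
      rw [pow_succ']
      refine ⟨by rw [MulAut.mul_apply, ih.1, hzc], ?_⟩
      rw [MulAut.mul_apply, ih.2, map_mul, map_pow, map_pow, hzc, hd, ← ha, pow_succ (z ^ a) k,
        mul_assoc]
  have hβk : ∀ k : ℕ, (β ^ k) w = w ∧ (β ^ k) z = (w ^ b) ^ k * z := by
    intro k
    induction k with
    | zero => simp
    | succ k ih =>
      rw [pow_succ']
      refine ⟨by rw [MulAut.mul_apply, ih.1, hβw], ?_⟩
      rw [MulAut.mul_apply, ih.2, map_mul, map_pow, map_pow, hβw, hβz, pow_succ (w ^ b) k, mul_assoc]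
  obtain ⟨hC1, hC2⟩ := hck a
  rw [← pow_mul, hsq ha3] at hC2
  obtain ⟨hB1, hB2⟩ := hβk b
  rw [← pow_mul, hsq hb3] at hB2
  set C' := c ^ a
  set B' := β ^ b
  have hB3 : B'⁻¹ z = w⁻¹ * z ∧ B'⁻¹ w = w := by
    constructor
    · apply B'.injective
      rw [MulAut.apply_inv_self, map_mul, map_inv, hB1, hB2, inv_mul_cancel_left]
    · apply B'.injective
      rw [MulAut.apply_inv_self, hB1]
  set J := C' * B'⁻¹ * C' with hJ
  have hJz : J z = w⁻¹ := by
    rw [hJ, MulAut.mul_apply, MulAut.mul_apply, hC1, hB3.1, map_mul, map_inv, hC1, hC2, mul_inv_rev,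
      mul_assoc, inv_mul_cancel, mul_one]
  have hJw : J w = z := by
    rw [hJ, MulAut.mul_apply, MulAut.mul_apply, hC2, map_mul, hB3.1, hB3.2, hab (w⁻¹) z, mul_assoc,
      inv_mul_cancel, mul_one, hC1]
  have hεA : J * J ∈ F.autGroup E :=
    have hJA : J ∈ F.autGroup E :=
      mul_mem (mul_mem (pow_mem hcA _) (inv_mem (pow_mem hβA _))) (pow_mem hcA _)
    mul_mem hJA hJA
  have hzwne : ∀ i : ℕ, z ^ i ≠ w := fun i h => hcw (by rw [← h, map_pow, hzc])
  have hε : ∀ e : E, (J * J) e = e⁻¹ := by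
    intro e
    obtain ⟨i, j, rfl⟩ := hgen z w hz1 hzwne e
    have hJJ : ∀ f : E, (J * J) f = J (J f) := fun _ => rfl
    rw [map_mul, map_pow, map_pow, hJJ, hJJ, hJz, map_inv, hJw, hJz,
      mul_inv_rev, inv_pow, inv_pow, hab]
  have hext : J * J ∈ extendSet F E := by
    refine extends_of_conj_mem 3 hS hF hE.2.1 hεA hcind hcinn ?_
    have : J * J * c * (J * J)⁻¹ = c := by
      rw [mul_inv_eq_iff_eq_mul]
      refine MulEquiv.ext fun e => ?_
      show (J * J) (c e) = c ((J * J) e)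
      rw [hε, hε, map_inv]
    rw [this]; exact hcind
  obtain ⟨Q, hEQ, φ, hφ, hφe⟩ := hext
  exact ⟨Q, hEQ, φ, hφ, fun e => by rw [hφe, hε]; rfl⟩

/-- With a pearl of order `9` in a group of order `27` the exponent is `3`. -/
theorem exponent_three [Finite S] [Fact (Nat.Prime 3)] (hS : IsPGroup 3 S) (hF : F.IsSaturated 3)
    {E : Subgroup Ω} (hE : F.IsEssential 3 E) (hcard : Nat.card E = 9) (hexp : ∀ e : E, e ^ 3 = 1)
    {x : S} (hx : Slim 3 x) (hn : Nat.card S = 3 ^ 3) (g : S) : g ^ 3 = 1 := by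
  have hES := hE.1.1
  haveI := finite_of_le hES
  have hab : ∀ e f : E, e * f = f * e :=
    IsPGroup.commutative_of_card_eq_prime_sq (p := 3) (by rw [hcard]; norm_num)
  set E' := E.subgroupOf S with hE'
  have hE'card : Nat.card E' = 3 ^ 2 := by
    rw [Nat.card_congr (Subgroup.subgroupOfEquivOfLe hES).toEquiv, hcard]; norm_num
  have hE'exp : ∀ e ∈ E', e ^ 3 = 1 := fun e he => Subtype.ext (by
    have := congrArg Subtype.val (hexp ⟨(e : Ω), Subgroup.mem_subgroupOf.1 he⟩)
    simpa using this)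
  by_contra hg
  have hgE : g ∉ E' := fun h => hg (hE'exp g h)
  have hcen : ∀ {z : Ω}, z ∈ S → (∀ e ∈ E, e * z = z * e) → z ∈ E := fun h1 h2 =>
    centralizer_mem_of_centric hE.1 h1 h2
  have hZE : Subgroup.center S ≤ E' := fun z hz => Subgroup.mem_subgroupOf.2
    (hcen z.2 fun e he => congrArg Subtype.val (Subgroup.mem_center_iff.1 hz ⟨e, hES he⟩))
  haveI := hx.pgroup.isNilpotent
  have hle : gam S 1 ≤ Subgroup.center S :=
    gam_le_center (hx.gam_eq_bot hn (by norm_num) (by norm_num))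
  have hyn : (g : Ω) ∈ Subgroup.normalizer (E : Set Ω) := by
    refine mem_normalizer_of_conj_mem hES (fun e he => ?_)
    have h1 : ⁅g, (⟨e, hES he⟩ : S)⁆ * ⟨e, hES he⟩ ∈ E' :=
      mul_mem (hZE (hle (Subgroup.commutator_mem_commutator (Subgroup.mem_top _) (Subgroup.mem_top _))))
        (Subgroup.mem_subgroupOf.2 he)
    have h2 := Subgroup.mem_subgroupOf.1 h1
    simpa [commutatorElement_def, mul_assoc] using h2
  obtain ⟨Q, hEQ, φ, hφ, hφe⟩ := inversion_extends hS hF hE hcard hexp hab g.2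
    (fun h => hgE (Subgroup.mem_subgroupOf.2 h)) hyn (fun e => by
      have hc : ⁅g, (⟨(e : Ω), hES e.2⟩ : S)⁆ ∈ Subgroup.center S :=
        hle (Subgroup.commutator_mem_commutator (Subgroup.mem_top _) (Subgroup.mem_top _))
      refine ⟨⟨_, Subgroup.mem_subgroupOf.1 (hZE hc)⟩, rfl, ?_⟩
      exact congrArg Subtype.val (Subgroup.mem_center_iff.1 hc g))
  have hQS : Q ≤ S := le_of_mem_hom hφ
  haveI := finite_of_le hQS
  have hQ : Q = S := by
    refine eq_of_le_of_card_le le_rfl hQS ?_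
    have h1 : Nat.card E < Nat.card Q :=
      lt_of_le_of_ne (Subgroup.card_le_of_le hEQ.le) fun h => hEQ.ne (Subgroup.eq_of_le_of_card_ge hEQ.le h.ge)
    obtain ⟨i, hi⟩ := IsPGroup.iff_card.1 (isPGroup_of_le hS hQS)
    rw [hcard, hi] at h1
    rw [hi, hn]
    refine Nat.pow_le_pow_right (by norm_num) ?_
    by_contra h
    have : 3 ^ i ≤ 3 ^ 2 := Nat.pow_le_pow_right (by norm_num) (by omega)
    omega
  subst hQ
  let φ' : Q →* Q := φ.codRestrict Q (fun q => apply_mem_S hφ q)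
  refine no_inversion hx hn E' hE'card hE'exp hg φ' (fun e he => Subtype.ext ?_) hZE ?_
  · exact hφe ⟨(e : Ω), Subgroup.mem_subgroupOf.1 he⟩
  · by_contra hcon
    push Not at hcon
    exact hgE (Subgroup.mem_subgroupOf.2 (hcen g.2 fun e he =>
      (congrArg Subtype.val (hcon ⟨e, hES he⟩ (Subgroup.mem_subgroupOf.2 he))).symm))

end CfsgLib.PearlMC
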