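import Cfsg.Agent.PearlMC.Basic

/-!
Powers in slim p-groups: `p`-th powers raise the level in the lower central series by exactly
`p - 1`, and hence every subgroup needs at most `p` generators.
-/

set_option autoImplicit false
set_option linter.style.haveILetI false

namespace CfsgLib.PearlMC

open Subgroup CfsgLib.FGSA.PolySeq
open scoped commutatorElement

universe u

variable {G : Type u} [Group G] [Finite G]

section Poly

variable {Φ : Filt G}

theorem mem_conj_of {l a : ℕ} {w h : ℕ → G} (hw : Mem Φ l w) (hh : Mem Φ a h) :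
    Mem Φ l (fun n => (h n)⁻¹ * w n * h n) := by
  have h1 := hw.mul ((closed (Φ := Φ) l).comm l a (Nat.le_add_right _ _) w⁻¹ h⁻¹ hw.inv hh.inv)
  convert h1 using 1
  funext n
  simp [commutatorElement_def, mul_assoc]

theorem Mem.iterate {k : ℕ} {f : ℕ → G} (h : Mem Φ k f) : ∀ j, Mem Φ (k + j) (diff^[j] f) := by
  intro j
  induction j with
  | zero => exact h
  | succ j ih => rw [Function.iterate_succ_apply', ← Nat.add_assoc]; exact ih.diff_mem

/-- Iterated differences are additive one step deeper. -/
theorem diff_iterate_mul {k : ℕ} (hk : 1 ≤ k) {f g : ℕ → G} (hf : Mem Φ k f) (hg : Mem Φ k g) :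
    ∀ j, ∃ W, Mem Φ (k + j + 1) W ∧ diff^[j] (f * g) = diff^[j] f * diff^[j] g * W := by
  intro j
  induction j with
  | zero => exact ⟨fun _ => 1, mem_one _, by funext n; simp⟩
  | succ j ih =>
    obtain ⟨W, hW, e⟩ := ih
    set A := diff^[j] f with hA
    set B := diff^[j] g with hB
    have hAm : Mem Φ (k + j) A := Mem.iterate hf j
    have hBm : Mem Φ (k + j) B := Mem.iterate hg j
    have hdA := hAm.diff_mem
    have hdB := hBm.diff_mem
    have C := closed (Φ := Φ) (k + (j + 1) + 1)
    have c1 := C.comm _ _ (by omega) _ _ hdA.inv hW.inv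
    have c2 := mem_conj_of (C.comm _ _ (by omega) _ _ hdA.inv hBm.inv) hW
    have c3 := C.comm _ _ (by omega) _ _ hdB.inv hW.inv
    refine ⟨_, (mem_conj_of (c1.mul c2) hdB).mul
      (c3.mul (hW.diff_mem.mono (by omega))), ?_⟩
    rw [Function.iterate_succ_apply', Function.iterate_succ_apply', Function.iterate_succ_apply', e]
    funext n
    simp only [diff, Pi.mul_apply, Pi.inv_apply, commutatorElement_def, ← hA, ← hB]
    group

theorem diff_iterate_binom_eq_one (e : G) : ∀ m j, m < j →
    diff^[j] (fun n => e ^ n.choose m) = fun _ => 1 := by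
  have hone : ∀ j, diff^[j] (fun _ : ℕ => (1 : G)) = fun _ => 1 := by
    intro j
    induction j with
    | zero => rfl
    | succ j ih => rw [Function.iterate_succ_apply', ih]; funext n; simp [diff]
  intro m
  induction m with
  | zero =>
    intro j hj
    obtain ⟨j, rfl⟩ : ∃ l, j = l + 1 := ⟨j - 1, by omega⟩
    rw [Function.iterate_succ_apply]
    convert hone j using 2
    funext n; simp [diff]
  | succ m ih =>
    intro j hj
    obtain ⟨j, rfl⟩ : ∃ l, j = l + 1 := ⟨j - 1, by omega⟩
    rw [Function.iterate_succ_apply]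
    convert ih j (by omega) using 2
    funext n
    simp only [diff, Nat.choose_succ_succ, Nat.succ_eq_add_one]
    rw [pow_add, ← mul_assoc]
    have hc : (e ^ n.choose (m + 1))⁻¹ * e ^ n.choose m = e ^ n.choose m * (e ^ n.choose (m + 1))⁻¹ :=
      ((Commute.refl e).pow_pow _ _).inv_left.eq
    rw [hc, inv_mul_cancel_right]

omit [Finite G] in
theorem apply_eq_iterate {f : ℕ → G} {m : ℕ} (h : ∀ n < m, f n = 1) : f m = diff^[m] f 0 := by
  have key : ∀ j, j ≤ m → (∀ n, n + j < m → diff^[j] f n = 1) ∧ diff^[j] f (m - j) = f m := by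
    intro j
    induction j with
    | zero => exact fun _ => ⟨fun n hn => h n (by omega), rfl⟩
    | succ j ih =>
      intro hj
      obtain ⟨h1, h2⟩ := ih (by omega)
      refine ⟨fun n hn => ?_, ?_⟩
      · rw [Function.iterate_succ_apply', diff, h1 n (by omega), h1 (n + 1) (by omega), inv_one, one_mul]
      · rw [Function.iterate_succ_apply', diff, h1 _ (by omega), inv_one, one_mul,
          show m - (j + 1) + 1 = m - j by omega, h2]
  have := (key m le_rfl).2
  rw [Nat.sub_self] at this
  exact this.symm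

end Poly

/-- The lower central series, started at the level `k` and shifted by two. -/
def shiftFilt (c : ℕ) (hc : (⊤ : Subgroup G).lowerCentralSeries c = ⊥) (k : ℕ) (hk : 1 ≤ k) :
    Filt G where
  F s := gam G (k + (s - 2))
  K := c + 2
  anti {a b} h := gam_anti (by omega)
  eventually a ha := le_bot_iff.1 (hc ▸ gam_anti (show c ≤ k + (a - 2) by omega))
  comm a b := by
    have h := (lcsFilt G c hc).comm (k + (a - 2) + 1) (k + (b - 2) + 1)
    exact h.trans (gam_anti (by omega))

variable {p : ℕ} [hp : Fact p.Prime] {x : G}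

theorem Slim.pow_level (S : Slim p x) (hp2 : p ≠ 2) {n : ℕ} (hn : Nat.card G = p ^ n) :
    ∀ k, 1 ≤ k → ∀ a ∈ gam G k, a ^ p ∈ gam G (k + p - 1) ∧
      (a ∉ gam G (k + 1) → k + p + 1 ≤ n → a ^ p ∉ gam G (k + p)) := by
  suffices H : ∀ d k, 1 ≤ k → n ≤ k + 1 + d → ∀ a ∈ gam G k, a ^ p ∈ gam G (k + p - 1) ∧
      (a ∉ gam G (k + 1) → k + p + 1 ≤ n → a ^ p ∉ gam G (k + p)) from
    fun k hk => H n k hk (by omega)
  have hp1 := hp.out.two_le
  haveI := S.pgroup.isNilpotent
  obtain ⟨c, hc⟩ := Subgroup.nilpotent_iff_lowerCentralSeries.1 ‹Group.IsNilpotent G›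
  intro d
  induction d with
  | zero =>
    intro k hk hd a ha
    rcases Nat.lt_or_ge n 2 with h2 | h2
    · have hle : gam G k = ⊥ := by
        refine le_bot_iff.1 fun b hb => ?_
        have hcom : ∀ u v : G, u * v = v * u := by
          interval_cases n
          · intro u v
            haveI := (Nat.card_eq_one_iff_unique.1 (by rw [hn, pow_zero] : Nat.card G = 1)).1
            exact Subsingleton.elim _ _
          · intro u v
            haveI : IsCyclic G := isCyclic_of_prime_card (p := p) (by rw [hn, pow_one])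
            exact (IsCyclic.commGroup (α := G)).mul_comm u v
        have : gam G 1 ≤ ⊥ := by
          rw [gam, top_lowerCentralSeries_one, _root_.commutator_def, commutator_le]
          exact fun u _ v _ => mem_bot.2 (commutatorElement_eq_one_iff_mul_comm.2 (hcom u v))
        exact this (gam_anti hk hb)
      rw [hle, mem_bot] at ha
      subst ha
      exact ⟨by rw [one_pow]; exact one_mem _, fun h => absurd (one_mem _) h⟩
    · rw [S.gam_eq_bot hn h2 (by omega), mem_bot] at ha
      subst ha
      exact ⟨by rw [one_pow]; exact one_mem _, fun h => absurd (one_mem _) h⟩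
  | succ d ih =>
    intro k hk hd a ha
    rcases Nat.lt_or_ge (k + 1) n with hkn | hkn
    swap
    · exact (ih k hk (by omega) a ha)
    have hlt : p ^ 2 < Nat.card G := hn ▸ Nat.pow_lt_pow_right hp.out.one_lt (by omega)
    -- the power map deeper down
    have hdeep : ∀ {l : ℕ} {e : G}, k + 1 ≤ l → e ∈ gam G l → e ^ p ∈ gam G (k + p) := by
      intro l e hl he
      exact gam_anti (by omega) (ih (k + 1) (by omega) (by omega) e (gam_anti hl he)).1
    -- the conjugate
    have hc1 : x * a * x⁻¹ ∈ gam G 1 := by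
      have : (gam G 1).Normal := by infer_instance
      exact this.conj_mem a (gam_anti hk ha) x
    obtain ⟨g₀, hg₀⟩ := S.exists_conj hlt.le hc1
    have hxa : g₀ * x * g₀⁻¹ = x * a := by
      rw [commutatorElement_def] at hg₀
      calc g₀ * x * g₀⁻¹ = g₀ * x * g₀⁻¹ * x⁻¹ * x := by group
        _ = x * a * x⁻¹ * x := by rw [hg₀]
        _ = x * a := by group
    set Φ := shiftFilt c hc k hk with hΦ
    set g : ℕ → G := fun t => (x * a) ^ t * (x ^ t)⁻¹ with hg
    have hgp : g p = 1 := by
      show (x * a) ^ p * (x ^ p)⁻¹ = 1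
      rw [← hxa, conj_pow, mem_center_iff.1 (S.pow_prime_central hlt) g₀]
      group
    let e : ℕ → G := fun j => (fun w => ⁅w⁻¹, x⁆)^[j] a
    have he : ∀ j, e j ∈ gam G (k + j) := by
      intro j
      induction j with
      | zero => exact ha
      | succ j ihj =>
        show (fun w => ⁅w⁻¹, x⁆)^[j + 1] a ∈ _
        rw [Function.iterate_succ_apply']
        exact comm_mem_gam_succ (inv_mem ihj)
    have hdiff : ∀ j t, diff^[j + 1] g t = x ^ (t + 1) * e j * (x ^ (t + 1))⁻¹ := by
      intro j
      induction j with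
      | zero =>
        intro t
        show diff g t = _
        simp only [diff, hg, e, Function.iterate_zero, id, pow_succ]
        group
      | succ j ihj =>
        intro t
        rw [Function.iterate_succ_apply', diff, ihj t, ihj (t + 1)]
        show _ = _ * (fun w => ⁅w⁻¹, x⁆)^[j + 1] a * _
        rw [Function.iterate_succ_apply']
        simp only [e, commutatorElement_def, pow_succ]
        group
    have hgmem : Mem Φ 1 g := by
      intro j t
      rcases j with _ | j
      · show g t ∈ gam G (k + 0)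
        have hN : (gam G k).Normal := by infer_instance
        have hq : ∀ t, ((g t : G) : G ⧸ gam G k) = 1 := by
          intro t
          simp only [hg, QuotientGroup.mk_mul, QuotientGroup.mk_pow, QuotientGroup.mk_inv,
            (QuotientGroup.eq_one_iff a).2 ha, mul_one, mul_inv_cancel]
        exact (QuotientGroup.eq_one_iff _).1 (hq t)
      · rw [hdiff j t]
        show _ ∈ gam G (k + (1 + (j + 1) - 2))
        have hN : (gam G (k + j)).Normal := by infer_instance
        rw [show k + (1 + (j + 1) - 2) = k + j by omega]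
        exact hN.conj_mem _ (he j) _
    have hg0 : g 0 = 1 := by simp [hg]
    have hg1 : g 1 = x * a * x⁻¹ := by simp [hg]
    haveI hNn : (gam G (k + p)).Normal := by infer_instance
    set q : G → G ⧸ gam G (k + p) := fun w => (w : G ⧸ gam G (k + p)) with hq
    have loop : ∀ m, 2 ≤ m → m ≤ p → ∃ f : ℕ → G, Mem Φ 1 f ∧ (∀ t < m, f t = 1) ∧
        q (diff^[p] f 0) = q (diff^[p] g 0) ∧ q (f p) = q ((x * a * x⁻¹)⁻¹ ^ p) := by
      have step : ∀ (f : ℕ → G) (m : ℕ), Mem Φ 1 f → m < p → (∀ t < m, f t = 1) →
          ∃ f' : ℕ → G, Mem Φ 1 f' ∧ (∀ t < m + 1, f' t = 1) ∧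
            q (diff^[p] f' 0) = q (diff^[p] f 0) ∧
            f' p = (f m)⁻¹ ^ p.choose m * f p := by
        intro f m hf hm hv
        have hem : f m ∈ Φ.F (1 + m) := by
          rw [apply_eq_iterate hv]; exact hf m 0
        have hu := mem_binom (Φ := Φ) (e := (f m)⁻¹) m 1 (inv_mem hem)
        obtain ⟨W, hW, eW⟩ := diff_iterate_mul le_rfl hu hf p
        refine ⟨(fun t => (f m)⁻¹ ^ t.choose m) * f, hu.mul hf, fun t ht => ?_, ?_, rfl⟩
        · rcases Nat.lt_succ_iff_lt_or_eq.1 ht with ht' | rfl
          · simp [Nat.choose_eq_zero_of_lt ht', hv t ht']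
          · simp
        · have hW0 : q (W 0) = 1 := (QuotientGroup.eq_one_iff _).2
            (gam_anti (by omega) (hW.apply_mem 0))
          rw [eW, diff_iterate_binom_eq_one _ m p hm]
          simp only [hq, Pi.mul_apply, one_mul, QuotientGroup.mk_mul]
          rw [show ((W 0 : G) : G ⧸ gam G (k + p)) = 1 from hW0, mul_one]
      intro m hm2
      induction m, hm2 using Nat.le_induction with
      | base =>
        intro _
        obtain ⟨f', h1, h2, h3, h4⟩ := step g 1 hgmem (by omega) (fun t ht => by
          obtain rfl : t = 0 := by omega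
          exact hg0)
        exact ⟨f', h1, h2, h3, by rw [h4, hgp, mul_one, Nat.choose_one_right, hg1]⟩
      | succ m hm ihm =>
        intro hmp
        obtain ⟨f, h1, h2, h3, h4⟩ := ihm (by omega)
        obtain ⟨f', g1, g2, g3, g4⟩ := step f m h1 (by omega) h2
        refine ⟨f', g1, g2, g3.trans h3, ?_⟩
        have hfm : f m ∈ gam G (k + (1 + m - 2)) := by
          rw [apply_eq_iterate h2]; exact h1 m 0
        obtain ⟨l, hl⟩ := hp.out.dvd_choose_self (show m ≠ 0 by omega) (show m < p by omega)
        have h5 : q ((f m)⁻¹ ^ p.choose m) = 1 := (QuotientGroup.eq_one_iff _).2 (by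
          rw [hl, pow_mul]
          exact pow_mem (hdeep (l := k + (1 + m - 2)) (by omega) (inv_mem hfm)) l)
        rw [g4, ← h4]
        simp only [hq, QuotientGroup.mk_mul] at h5 ⊢
        rw [h5, one_mul]
    obtain ⟨f, hf, hv, hd1, hd2⟩ := loop p hp1 le_rfl
    rw [apply_eq_iterate hv] at hd2
    have hkey : q (x ^ 1 * e (p - 1) * (x ^ 1)⁻¹) = q ((x * a * x⁻¹)⁻¹ ^ p) := by
      have h6 := hdiff (p - 1) 0
      rw [show p - 1 + 1 = p by omega] at h6
      rw [← h6, ← hd1, hd2]
    have hN' : ∀ j, (gam G j).Normal := fun j => by infer_instance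
    have hmem : ∀ j, j ≤ k + p → (e (p - 1) ∈ gam G j ↔ a ^ p ∈ gam G j) := by
      intro j hj
      have h7 : (x ^ 1 * e (p - 1) * (x ^ 1)⁻¹)⁻¹ * (x * a * x⁻¹)⁻¹ ^ p ∈ gam G j :=
        gam_anti hj (QuotientGroup.eq.1 hkey)
      rw [inv_pow, conj_pow, pow_one] at h7
      have h8 : x⁻¹ * ((x * e (p - 1) * x⁻¹)⁻¹ * (x * a ^ p * x⁻¹)⁻¹) * x ∈ gam G j :=
        (hN' j).conj_mem' _ h7 x
      rw [show x⁻¹ * ((x * e (p - 1) * x⁻¹)⁻¹ * (x * a ^ p * x⁻¹)⁻¹) * x =
        (e (p - 1))⁻¹ * (a ^ p)⁻¹ by group] at h8
      constructor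
      · intro h
        have := mul_mem h h8
        rw [mul_inv_cancel_left] at this
        exact (inv_mem_iff).1 this
      · intro h
        have := mul_mem h8 h
        rw [inv_mul_cancel_right] at this
        exact (inv_mem_iff).1 this
    refine ⟨?_, fun ha' hkp => ?_⟩
    · rw [show k + p - 1 = k + (p - 1) by omega]
      exact (hmem _ (by omega)).1 (he (p - 1))
    · intro hcon
      have hlev : ∀ j, j ≤ p - 1 → e j ∉ gam G (k + j + 1) := by
        intro j
        induction j with
        | zero => exact fun _ => ha'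
        | succ j ihj =>
          intro hj
          show (fun w => ⁅w⁻¹, x⁆)^[j + 1] a ∉ _
          rw [Function.iterate_succ_apply']
          exact (S.comm_level hlt (k := k + j) (by omega) (he j) (ihj (by omega))
            (S.gam_ne_bot hn (by omega))).2
      have := (hmem (k + p) le_rfl).2 hcon
      exact hlev (p - 1) le_rfl (by rwa [show k + (p - 1) + 1 = k + p by omega])

/-- Every subgroup of a slim `p`-group is generated by at most `p` elements. -/
theorem Slim.generators (S : Slim p x) (hp2 : p ≠ 2) (H : Subgroup G) :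
    ∃ T : Finset G, T.card ≤ p ∧ closure (T : Set G) = H := by
  classical
  have hp1 := hp.out.two_le
  obtain ⟨n, hn⟩ := IsPGroup.iff_card.1 S.pgroup
  rcases Nat.lt_or_ge n 2 with h2 | h2
  · haveI : IsCyclic G := by
      interval_cases n
      · haveI := (Nat.card_eq_one_iff_unique.1 (by rw [hn, pow_zero] : Nat.card G = 1)).1
        exact isCyclic_of_subsingleton
      · exact isCyclic_of_prime_card (p := p) (by rw [hn, pow_one])
    obtain ⟨h, hh⟩ := (Subgroup.isCyclic_iff_exists_zpowers_eq_top H).1 (Subgroup.isCyclic H)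
    exact ⟨{h}, by simp; omega, by rw [Finset.coe_singleton, ← zpowers_eq_closure, hh]⟩
  have hsq : p ^ 2 ≤ Nat.card G := hn ▸ Nat.pow_le_pow_right hp.out.pos h2
  have hidx : ∀ M : Subgroup G, gam G 1 < M → M.index ≤ p := by
    intro M hM
    obtain ⟨j, hj⟩ := S.pgroup.index M
    have h1 := index_strictAnti hM
    rw [(S.index_eq hsq).1, hj, Nat.pow_lt_pow_iff_right hp.out.one_lt] at h1
    rw [hj]
    exact (Nat.pow_le_pow_right hp.out.pos (show j ≤ 1 by omega)).trans_eq (pow_one p)
  by_cases htop : H ⊔ gam G 1 = ⊤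
  · rw [eq_top_of_sup_gam S.pgroup htop]
    by_cases hx : x ∈ gam G 1
    · -- only possible when the group has order `p ^ 2`
      have hG2 : gam G 1 = ⊥ := by
        by_contra hne
        refine S.not_mem ?_ hx
        refine lt_of_le_of_ne hsq fun he => hne ?_
        have := (S.index_eq hsq).1
        exact eq_bot_of_card_eq _ (Nat.eq_of_mul_eq_mul_right Nat.card_pos
          (he ▸ this ▸ (gam G 1).card_mul_index.trans (one_mul _).symm))
      rw [hG2, mem_bot] at hx
      have hC : centralizer ({x} : Set G) = ⊤ :=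
        eq_top_iff.2 fun g _ => mem_centralizer_singleton_iff.2 (by rw [hx]; simp)
      have hcard : Nat.card G = p ^ 2 := le_antisymm (by
        have := S.card_le; rwa [hC, card_top] at this) hsq
      obtain ⟨y, hy⟩ : ∃ y : G, y ≠ 1 := by
        haveI : Nontrivial G := Finite.one_lt_card_iff_nontrivial.1
          (hcard ▸ Nat.one_lt_pow (by norm_num) hp.out.one_lt)
        exact exists_ne 1
      by_cases hyt : zpowers y = ⊤
      · exact ⟨{y}, by simp; omega, by rw [Finset.coe_singleton, ← zpowers_eq_closure, hyt]⟩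
      obtain ⟨z, hz⟩ : ∃ z : G, z ∉ zpowers y := by
        by_contra hcon
        push Not at hcon
        exact hyt (eq_top_iff.2 fun g _ => hcon g)
      refine ⟨{y, z}, Finset.card_le_two.trans hp1, ?_⟩
      have hlt : zpowers y < closure (({y, z} : Finset G) : Set G) := by
        refine lt_of_le_of_ne ((zpowers_le).2 (subset_closure (by simp))) fun he => hz ?_
        rw [he]; exact subset_closure (by simp)
      obtain ⟨j, hj⟩ := S.pgroup.index (closure (({y, z} : Finset G) : Set G))
      obtain ⟨i, hi⟩ := S.pgroup.index (zpowers y)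
      have h3 := index_strictAnti hlt
      rw [hi, hj, Nat.pow_lt_pow_iff_right hp.out.one_lt] at h3
      have h4 : i ≤ 1 := by
        by_contra hcon
        have h5 : Nat.card (zpowers y) * (zpowers y).index = p ^ 2 := by rw [card_mul_index, hcard]
        rw [hi] at h5
        have h6 : 1 < Nat.card (zpowers y) := by
          rw [Finite.one_lt_card_iff_nontrivial, nontrivial_iff_ne_bot, Ne, zpowers_eq_bot]
          exact hy
        have h7 : p ^ 2 ≤ p ^ i := Nat.pow_le_pow_right hp.out.pos (by omega)
        have h8 := Nat.mul_le_mul (h6 : 2 ≤ Nat.card (zpowers y)) h7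
        have := pow_pos hp.out.pos 2
        omega
      exact index_eq_one.1 (by rw [hj, show j = 0 by omega, pow_zero])
    · by_cases hxt : zpowers x ⊔ gam G 1 = ⊤
      · exact ⟨{x}, by simp; omega,
          by rw [Finset.coe_singleton, ← zpowers_eq_closure, eq_top_of_sup_gam S.pgroup hxt]⟩
      obtain ⟨y, hy⟩ : ∃ y : G, y ∉ zpowers x ⊔ gam G 1 := by
        by_contra hcon
        push Not at hcon
        exact hxt (eq_top_iff.2 fun g _ => hcon g)
      refine ⟨{x, y}, Finset.card_le_two.trans hp1, eq_top_of_sup_gam S.pgroup ?_⟩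
      have h1 : gam G 1 < zpowers x ⊔ gam G 1 :=
        lt_of_le_of_ne le_sup_right fun he => hx (he ▸ mem_sup_left (mem_zpowers x))
      have hle : zpowers x ⊔ gam G 1 ≤ closure (({x, y} : Finset G) : Set G) ⊔ gam G 1 :=
        sup_le_sup_right ((zpowers_le).2 (subset_closure (by simp))) _
      have h2 : zpowers x ⊔ gam G 1 < closure (({x, y} : Finset G) : Set G) ⊔ gam G 1 :=
        lt_of_le_of_ne hle fun he => hy (he ▸ mem_sup_left (subset_closure (by simp)))
      have h3 := index_strictAnti h2
      have h4 := hidx _ h1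
      obtain ⟨j, hj⟩ := S.pgroup.index (closure (({x, y} : Finset G) : Set G) ⊔ gam G 1)
      rw [hj] at h3
      have h5 : p ^ j < p ^ 1 := by rw [pow_one]; exact h3.trans_le h4
      rw [Nat.pow_lt_pow_iff_right hp.out.one_lt] at h5
      exact index_eq_one.1 (by rw [hj, show j = 0 by omega, pow_zero])
  -- generators of the part inside the derived subgroup
  let r := p - 1
  have hr : 1 ≤ r := by omega
  let P : ℕ → ℕ → Prop := fun i k => 1 ≤ k ∧ k % r = i ∧ ∃ a ∈ H, a ∈ gam G k ∧ a ∉ gam G (k + 1)
  let pick : ℕ → G := fun i => if h : ∃ k, P i k then (Nat.find_spec h).2.2.choose else 1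
  let K : Subgroup G := closure (((Finset.range r).image pick : Finset G) : Set G)
  have hKH : K ≤ H := by
    rw [closure_le]
    intro w hw
    rw [Finset.coe_image] at hw
    obtain ⟨i, -, rfl⟩ := hw
    by_cases h : ∃ k, P i k
    · simp only [pick, dif_pos h]
      exact (Nat.find_spec h).2.2.choose_spec.1
    · simp only [pick, dif_neg h]
      exact one_mem _
  have hchain : ∀ s k (a : G), 1 ≤ k → a ∈ gam G k → a ∉ gam G (k + 1) → k + s * r + 2 ≤ n →
      a ^ p ^ s ∈ gam G (k + s * r) ∧ a ^ p ^ s ∉ gam G (k + s * r + 1) := by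
    intro s
    induction s with
    | zero => intro k a _ h1 h2 _; simpa using ⟨h1, h2⟩
    | succ s ihs =>
      intro k a hk h1 h2 hb
      rw [Nat.succ_mul] at hb ⊢
      obtain ⟨g1, g2⟩ := ihs k a hk h1 h2 (by omega)
      have := S.pow_level hp2 hn (k + s * r) (by omega) _ g1
      rw [pow_succ, pow_mul]
      refine ⟨by have := this.1; rwa [show k + s * r + p - 1 = k + (s * r + r) by omega] at this, ?_⟩
      have := this.2 g2 (by omega)
      rwa [show k + s * r + p = k + (s * r + r) + 1 by omega] at this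
  have hK : ∀ d k, 1 ≤ k → n ≤ k + 1 + d → H ⊓ gam G k ≤ K := by
    intro d
    induction d with
    | zero =>
      intro k hk hd
      rw [S.gam_eq_bot hn h2 (by omega), inf_bot_eq]
      exact bot_le
    | succ d ih =>
      intro k hk hd a ha
      rcases Nat.lt_or_ge (k + 1) n with hkn | hkn
      swap
      · exact ih k hk (by omega) ha
      by_cases ha' : a ∈ gam G (k + 1)
      · exact ih (k + 1) (by omega) (by omega) ⟨ha.1, ha'⟩
      have hex : ∃ l, P (k % r) l := ⟨k, hk, rfl, a, ha.1, ha.2, ha'⟩
      have hs := Nat.find_spec hex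
      have hle : Nat.find hex ≤ k := Nat.find_le ⟨hk, rfl, a, ha.1, ha.2, ha'⟩
      obtain ⟨b0H, b0in, b0out⟩ := hs.2.2.choose_spec
      set b0 := hs.2.2.choose with hb0
      have hb0K : b0 ∈ K := by
        refine subset_closure ?_
        rw [Finset.coe_image]
        exact ⟨k % r, Finset.mem_range.2 (Nat.mod_lt _ hr), by simp only [pick, dif_pos hex, hb0]⟩
      obtain ⟨s, hs'⟩ : ∃ s, k = Nat.find hex + s * r := by
        have hd' : r ∣ k - Nat.find hex := (Nat.modEq_iff_dvd' hle).1 hs.2.1
        obtain ⟨s, hs'⟩ := hd'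
        exact ⟨s, by rw [Nat.mul_comm]; omega⟩
      obtain ⟨g1, g2⟩ := hchain s _ b0 hs.1 b0in b0out (by omega)
      rw [← hs'] at g1 g2
      set b := b0 ^ p ^ s with hb
      have hbK : b ∈ K := pow_mem hb0K _
      -- the layer has prime order
      have hsup : zpowers b ⊔ gam G (k + 1) = gam G k := by
        have hle' : zpowers b ⊔ gam G (k + 1) ≤ gam G k :=
          sup_le ((zpowers_le).2 g1) (gam_anti (Nat.le_succ k))
        refine hle'.antisymm ?_
        have hlt : gam G (k + 1) < zpowers b ⊔ gam G (k + 1) :=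
          lt_of_le_of_ne le_sup_right fun he => g2 (he ▸ mem_sup_left (mem_zpowers b))
        have h1 := index_strictAnti hlt
        rw [S.index_gam hn (k + 1) (by omega) (by omega)] at h1
        obtain ⟨j, hj⟩ := S.pgroup.index (zpowers b ⊔ gam G (k + 1))
        rw [hj, Nat.pow_lt_pow_iff_right hp.out.one_lt] at h1
        have h3 := index_dvd_of_le hle'
        rw [S.index_gam hn k hk (by omega), hj, Nat.pow_dvd_pow_iff_le_right hp.out.one_lt] at h3
        refine le_of_eq (eq_of_le_of_card_ge hle' (le_of_eq ?_)).symm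
        refine Nat.eq_of_mul_eq_mul_right (pow_pos hp.out.pos j) ?_
        conv_lhs => rw [show j = k + 1 by omega, ← S.index_gam hn k hk (by omega), card_mul_index]
        rw [← hj, card_mul_index]
      have hasup : a ∈ zpowers b ⊔ gam G (k + 1) := hsup ▸ ha.2
      obtain ⟨u, hu, v, hv, rfl⟩ := mem_sup_of_normal_right.1 hasup
      have huK : u ∈ K := (zpowers_le.2 hbK) hu
      exact mul_mem huK (ih (k + 1) (by omega) (by omega)
        ⟨by simpa using mul_mem (inv_mem (hKH huK)) ha.1, hv⟩)
  by_cases hH1 : H ≤ gam G 1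
  · refine ⟨(Finset.range r).image pick, (Finset.card_image_le).trans (by simp; omega),
      le_antisymm hKH fun w hw => hK n 1 le_rfl (by omega) ⟨hw, hH1 hw⟩⟩
  obtain ⟨h, hhH, hh⟩ := SetLike.not_le_iff_exists.1 hH1
  refine ⟨insert h ((Finset.range r).image pick),
    (Finset.card_insert_le _ _).trans (by have := Finset.card_image_le (s := Finset.range r) (f := pick); simp at this; omega), ?_⟩
  rw [Finset.coe_insert]
  refine le_antisymm ((closure_le _).2 (Set.insert_subset hhH (subset_closure.trans hKH))) fun w hw => ?_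
  have h1 : gam G 1 < zpowers h ⊔ gam G 1 :=
    lt_of_le_of_ne le_sup_right fun he => hh (he ▸ mem_sup_left (mem_zpowers h))
  have hle : zpowers h ⊔ gam G 1 ≤ H ⊔ gam G 1 := sup_le_sup_right ((zpowers_le).2 hhH) _
  have heq : zpowers h ⊔ gam G 1 = H ⊔ gam G 1 := by
    refine hle.eq_or_lt.resolve_right fun hlt => htop ?_
    have h3 := index_strictAnti hlt
    have h4 := hidx _ h1
    obtain ⟨j, hj⟩ := S.pgroup.index (H ⊔ gam G 1)
    rw [hj] at h3
    have h5 : p ^ j < p ^ 1 := by rw [pow_one]; exact h3.trans_le h4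
    rw [Nat.pow_lt_pow_iff_right hp.out.one_lt] at h5
    exact index_eq_one.1 (by rw [hj, show j = 0 by omega, pow_zero])
  have hwsup : w ∈ zpowers h ⊔ gam G 1 := heq ▸ mem_sup_left hw
  obtain ⟨u, hu, v, hv, rfl⟩ := mem_sup_of_normal_right.1 hwsup
  have huH : u ∈ H := (zpowers_le.2 hhH) hu
  refine mul_mem ((zpowers_le.2 (subset_closure (Set.mem_insert _ _))) hu) ?_
  exact closure_mono (Set.subset_insert _ _)
    (hK n 1 le_rfl (by omega) ⟨by simpa using mul_mem (inv_mem huH) hw, hv⟩)

end CfsgLib.PearlMC
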