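import Cfsg.Agent.PearlMC.Power
import Cfsg.Prelude.Def_Transfer

/-!
Slim `3`-groups of order `27` and `81`.
-/

set_option autoImplicit false
set_option linter.style.haveILetI false

namespace CfsgLib.PearlMC

open Subgroup
open scoped commutatorElement Pointwise

universe u

variable {G : Type u} [Group G] [Finite G] {x : G}

local instance : Fact (Nat.Prime 3) := ⟨Nat.prime_three⟩

theorem isExtraspecial_of_slim (S : Slim 3 x) (hn : Nat.card G = 3 ^ 3) :
    Cfsg.IsExtraspecial 3 G := by
  haveI := S.pgroup.isNilpotent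
  have hlt : 3 ^ 2 < Nat.card G := by rw [hn]; norm_num
  have e1 := (S.index_eq hlt.le).1
  have hcard : Nat.card (gam G 1) = 3 := by
    have := (gam G 1).card_mul_index
    rw [e1, hn] at this
    omega
  have hle : gam G 1 ≤ center G := gam_le_center (S.gam_eq_bot hn (by norm_num) (by norm_num))
  have hZ : center G = gam G 1 := by
    refine le_antisymm (fun z hz => ?_) hle
    by_contra hz'
    have h1 : center G ⊔ gam G 1 = center G := sup_eq_left.2 hle
    have h2 : gam G 1 < center G := lt_of_le_of_ne hle fun h => hz' (h ▸ hz)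
    obtain ⟨j, hj⟩ := S.pgroup.index (center G)
    have h3 := index_strictAnti h2
    rw [e1, hj, Nat.pow_lt_pow_iff_right (by norm_num)] at h3
    have hCC : centralizer ({x} : Set G) ⊔ gam G 1 = centralizer ({x} : Set G) :=
      sup_eq_left.2 (hle.trans (center_le_centralizer _))
    have hxC : x ∈ centralizer ({x} : Set G) := mem_centralizer_singleton_iff.2 rfl
    have h4 : center G < centralizer ({x} : Set G) := lt_of_le_of_ne (center_le_centralizer _) fun h => by
      have hxZ : x ∈ center G := h.symm ▸ hxC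
      have h5 : centralizer ({x} : Set G) = ⊤ := eq_top_iff.2 fun g _ =>
        mem_centralizer_singleton_iff.2 (mem_center_iff.1 hxZ g)
      have := S.card_le
      rw [h5, card_top] at this
      omega
    have h5 := index_strictAnti h4
    have h6 := (centralizer ({x} : Set G)).card_mul_index
    rw [(S.index_eq hlt.le).2.1, hn] at h6
    rw [hj] at h5
    have h7 : (centralizer ({x} : Set G)).index = 3 := by omega
    rw [h7] at h5
    have h8 : 3 ^ 1 < 3 ^ j := by rwa [pow_one]
    rw [Nat.pow_lt_pow_iff_right (by norm_num)] at h8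
    omega
  refine ⟨⟨S.pgroup, le_antisymm ?_ ?_, by rw [hZ]; rfl⟩, by rw [hZ, hcard]⟩
  · -- two maximal subgroups meet in the derived subgroup
    rw [hZ]
    intro g hg
    have hmax : ∀ y : G, y ∉ gam G 1 → g ∈ zpowers y ⊔ gam G 1 := by
      intro y hy
      have h1 : gam G 1 < zpowers y ⊔ gam G 1 :=
        lt_of_le_of_ne le_sup_right fun h => hy (h ▸ mem_sup_left (mem_zpowers y))
      have hnt : zpowers y ⊔ gam G 1 ≠ ⊤ := by
        intro h
        have h2 := eq_top_of_sup_gam S.pgroup h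
        have h3 : gam G 1 = ⊥ := by
          rw [eq_bot_iff, gam, top_lowerCentralSeries_one, _root_.commutator_def, commutator_le]
          intro a _ b _
          obtain ⟨i, rfl⟩ := mem_zpowers_iff.1 (h2 ▸ mem_top a : a ∈ zpowers y)
          obtain ⟨l, rfl⟩ := mem_zpowers_iff.1 (h2 ▸ mem_top b : b ∈ zpowers y)
          rw [mem_bot]
          exact commutatorElement_eq_one_iff_commute.2 ((Commute.refl y).zpow_zpow i l)
        rw [h3, card_bot] at hcard
        omega
      obtain ⟨M, hM, hle'⟩ := (eq_top_or_exists_le_coatom (zpowers y ⊔ gam G 1)).resolve_left hnt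
      obtain ⟨-, hMi⟩ := CfsgLib.PGroupBasic.coatom_normal_index S.pgroup hM
      obtain ⟨j, hj⟩ := S.pgroup.index (zpowers y ⊔ gam G 1)
      have h4 := index_strictAnti h1
      rw [e1, hj, Nat.pow_lt_pow_iff_right (by norm_num)] at h4
      have hj0 : j ≠ 0 := fun h => hnt (index_eq_one.1 (by rw [hj, h, pow_zero]))
      have heq : zpowers y ⊔ gam G 1 = M := by
        refine hle'.eq_or_lt.resolve_right fun hlt' => ?_
        have h5 := index_strictAnti hlt'
        rw [hj, hMi, show j = 1 by omega, pow_one] at h5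
        omega
      exact heq ▸ frattini_le_coatom hM hg
    by_contra hg1
    obtain ⟨y, hy⟩ : ∃ y : G, y ∉ zpowers g ⊔ gam G 1 := by
      by_contra hcon
      push Not at hcon
      have h1 : zpowers g = ⊤ := eq_top_of_sup_gam S.pgroup (eq_top_iff.2 fun h _ => hcon h)
      have h3 : gam G 1 = ⊥ := by
        rw [eq_bot_iff, gam, top_lowerCentralSeries_one, _root_.commutator_def, commutator_le]
        intro a _ b _
        obtain ⟨i, rfl⟩ := mem_zpowers_iff.1 (h1 ▸ mem_top a : a ∈ zpowers g)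
        obtain ⟨l, rfl⟩ := mem_zpowers_iff.1 (h1 ▸ mem_top b : b ∈ zpowers g)
        rw [mem_bot]
        exact commutatorElement_eq_one_iff_commute.2 ((Commute.refl g).zpow_zpow i l)
      rw [h3, card_bot] at hcard
      omega
    have hy1 : y ∉ gam G 1 := fun h => hy (mem_sup_right h)
    -- `g` lies in the subgroup above the derived subgroup generated by `y`
    have h1 := hmax y hy1
    refine hy ?_
    have hlt1 : gam G 1 < zpowers g ⊔ gam G 1 :=
      lt_of_le_of_ne le_sup_right fun h => hg1 (h ▸ mem_sup_left (mem_zpowers g))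
    have hle2 : zpowers g ⊔ gam G 1 ≤ zpowers y ⊔ gam G 1 := sup_le ((zpowers_le).2 h1) le_sup_right
    have heq := hle2.eq_or_lt.resolve_right fun hlt2 => by
      have a1 := index_strictAnti hlt1
      have a2 := index_strictAnti hlt2
      obtain ⟨j, hj⟩ := S.pgroup.index (zpowers g ⊔ gam G 1)
      obtain ⟨i, hi⟩ := S.pgroup.index (zpowers y ⊔ gam G 1)
      rw [e1, hj, Nat.pow_lt_pow_iff_right (by norm_num)] at a1
      rw [hi, hj, Nat.pow_lt_pow_iff_right (by norm_num)] at a2
      have hi0 : i = 0 := by omega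
      have htop := eq_top_of_sup_gam S.pgroup (index_eq_one.1 (by rw [hi, hi0, pow_zero]) :
        zpowers y ⊔ gam G 1 = ⊤)
      have h3 : gam G 1 = ⊥ := by
        rw [eq_bot_iff, gam, top_lowerCentralSeries_one, _root_.commutator_def, commutator_le]
        intro a _ b _
        obtain ⟨i, rfl⟩ := mem_zpowers_iff.1 (htop ▸ mem_top a : a ∈ zpowers y)
        obtain ⟨l, rfl⟩ := mem_zpowers_iff.1 (htop ▸ mem_top b : b ∈ zpowers y)
        rw [mem_bot]
        exact commutatorElement_eq_one_iff_commute.2 ((Commute.refl y).zpow_zpow i l)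
      rw [h3, card_bot] at hcard
      omega
    exact heq.ge (mem_sup_left (mem_zpowers y))
  · rw [hZ, frattini, Order.radical]
    refine le_iInf₂ fun M hM => ?_
    obtain ⟨hMn, hMi⟩ := CfsgLib.PGroupBasic.coatom_normal_index S.pgroup hM
    haveI := hMn
    haveI : IsCyclic (G ⧸ M) := isCyclic_of_prime_card (p := 3) (by rw [← Subgroup.index]; exact hMi)
    rw [gam, top_lowerCentralSeries_one]
    exact Subgroup.Normal.quotient_commutative_iff_commutator_le.1
      ⟨⟨(IsCyclic.commGroup (α := G ⧸ M)).mul_comm⟩⟩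

/-- Inversion on an elementary abelian subgroup of order `9` cannot extend when the exponent is `9`. -/
theorem no_inversion (S : Slim 3 x) (hn : Nat.card G = 3 ^ 3) (E : Subgroup G)
    (hE : Nat.card E = 3 ^ 2) (hexp : ∀ e ∈ E, e ^ 3 = 1) {y : G} (hy : y ^ 3 ≠ 1) (φ : G →* G)
    (hφ : ∀ e ∈ E, φ e = e⁻¹) (hZE : center G ≤ E) (hCE : ∃ w ∈ E, y * w ≠ w * y) : False := by
  haveI := S.pgroup.isNilpotent
  obtain ⟨w, hwE, hw⟩ := hCE
  have hlt : 3 ^ 2 < Nat.card G := by rw [hn]; norm_num
  have hle : gam G 1 ≤ center G := gam_le_center (S.gam_eq_bot hn (by norm_num) (by norm_num))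
  have hyE : y ∉ E := fun h => hy (hexp y h)
  have hE3 : E.index = 3 := by
    have := E.card_mul_index
    rw [hE, hn] at this
    omega
  have hyc : ∀ u v : G, ⁅u, v⁆ ∈ center G := fun u v =>
    hle (commutator_mem_commutator (mem_top u) (mem_top v))
  haveI : E.Normal := normal_of_index_eq_three hn hE3 hle hZE
  have htop : zpowers y ⊔ E = ⊤ := by
    refine index_eq_one.1 ?_
    have h1 : E < zpowers y ⊔ E :=
      lt_of_le_of_ne le_sup_right fun h => hyE (h ▸ mem_sup_left (mem_zpowers y))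
    have h2 := index_strictAnti h1
    obtain ⟨j, hj⟩ := S.pgroup.index (zpowers y ⊔ E)
    rw [hE3, hj] at h2
    rw [hj]
    rcases Nat.eq_zero_or_pos j with rfl | hj0
    · rfl
    · have : 3 ≤ 3 ^ j := Nat.le_self_pow hj0.ne' 3
      omega
  obtain ⟨s, hs, e, he, hse⟩ := mem_sup_of_normal_right.1 (htop ▸ mem_top (φ y) : φ y ∈ zpowers y ⊔ E)
  obtain ⟨k, rfl : y ^ k = s⟩ := mem_powers_iff_mem_zpowers.2 hs
  have hy3 : y ^ 3 ∈ center G := by
    rw [mem_center_iff]
    intro g
    have hmul : ∀ i : ℕ, ⁅y ^ i, g⁆ = ⁅y, g⁆ ^ i := by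
      intro i
      induction i with
      | zero => simp
      | succ i ih =>
        calc ⁅y ^ (i + 1), g⁆ = y ^ i * ⁅y, g⁆ * (y ^ i)⁻¹ * ⁅y ^ i, g⁆ := by
              rw [pow_succ]; simp [commutatorElement_def, mul_assoc]
          _ = ⁅y, g⁆ * ⁅y ^ i, g⁆ := by rw [mem_center_iff.1 (hyc y g) (y ^ i), mul_inv_cancel_right]
          _ = ⁅y, g⁆ ^ (i + 1) := by rw [ih, pow_succ']
    have h3 : ⁅y ^ 3, g⁆ = 1 := by
      rw [hmul 3]
      exact hexp _ (hZE (hyc y g))
    exact (commutatorElement_eq_one_iff_mul_comm.1 h3).symm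
  have horder : ∀ {z : G}, z ^ 3 = 1 → z ≠ 1 → ∀ i j : ℕ, z ^ i = z ^ j → i % 3 = j % 3 := by
    intro z hz hz1 i j h
    have ho : orderOf z = 3 := orderOf_eq_prime hz hz1
    have := pow_eq_pow_iff_modEq.1 h
    rwa [ho] at this
  -- the cube
  have hbin : ∀ a b : G, (a * b) ^ 3 = ⁅b, a⁆ ^ 3 * (a ^ 3 * b ^ 3) := by
    intro a b
    set q := ⁅b, a⁆ with hq
    have hba : b * a = q * (a * b) := by simp [hq, commutatorElement_def, mul_assoc]
    have hc : ∀ g, g * q = q * g := fun g => mem_center_iff.1 (hyc b a) g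
    calc (a * b) ^ 3 = a * (b * a) * (b * a) * b := by simp only [pow_succ, pow_zero, one_mul]; group
      _ = a * (q * (a * b)) * (q * (a * b)) * b := by rw [hba]
      _ = q * (a * a * b * q * (a * b * b)) := by
          rw [← mul_assoc a q, hc a]; group
      _ = q * (q * (a * a * (b * a) * b * b)) := by rw [hc (a * a * b)]; group
      _ = q * (q * (a * a * (q * (a * b)) * b * b)) := by rw [hba]
      _ = q ^ 3 * (a ^ 3 * b ^ 3) := by
          rw [← mul_assoc (a * a) q, hc (a * a)]
          simp only [pow_succ, pow_zero, one_mul]; group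
  have hcube : (y ^ 3) ^ k = (y ^ 3) ^ 2 := by
    have h1 : φ (y ^ 3) = (y ^ 3)⁻¹ := hφ _ (hZE hy3)
    rw [map_pow, ← hse, hbin, hexp _ (hZE (hyc _ _)), one_mul, hexp e he, mul_one, ← pow_mul,
      Nat.mul_comm k 3, pow_mul] at h1
    rw [h1]
    exact (eq_inv_of_mul_eq_one_left (by
      rw [← pow_succ]; exact hexp _ (hZE hy3))).symm
  have hk1 := horder (hexp _ (hZE hy3)) hy k 2 hcube
  have hbil : ∀ u v g : G, ⁅u * v, g⁆ = ⁅u, g⁆ * ⁅v, g⁆ := by
    intro u v g
    calc ⁅u * v, g⁆ = u * ⁅v, g⁆ * u⁻¹ * ⁅u, g⁆ := by simp [commutatorElement_def, mul_assoc]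
      _ = ⁅v, g⁆ * ⁅u, g⁆ := by rw [mem_center_iff.1 (hyc v g) u, mul_inv_cancel_right]
      _ = ⁅u, g⁆ * ⁅v, g⁆ := (mem_center_iff.1 (hyc v g) _).symm
  have hinvr : ∀ u g : G, ⁅u, g⁻¹⁆ = ⁅u, g⁆⁻¹ := by
    intro u g
    calc ⁅u, g⁻¹⁆ = g⁻¹ * ⁅g, u⁆ * g := by simp [commutatorElement_def, mul_assoc]
      _ = ⁅g, u⁆ := by rw [mem_center_iff.1 (hyc g u) g⁻¹, inv_mul_cancel_right]
      _ = ⁅u, g⁆⁻¹ := (commutatorElement_inv u g).symm
  have hcomm : ⁅y, w⁆ ^ k = ⁅y, w⁆ ^ 1 := by
    have hd : ⁅y, w⁆ ∈ E := hZE (hyc y w)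
    have hew : ⁅e, w⁻¹⁆ = 1 := by
      refine commutatorElement_eq_one_iff_mul_comm.2 ?_
      have := IsPGroup.commutative_of_card_eq_prime_sq hE ⟨e, he⟩ ⟨w⁻¹, inv_mem hwE⟩
      exact congrArg Subtype.val this
    have hpow : ∀ i : ℕ, ⁅y ^ i, w⁻¹⁆ = ⁅y, w⁻¹⁆ ^ i := by
      intro i
      induction i with
      | zero => simp
      | succ i ih => rw [pow_succ, hbil, ih, pow_succ]
    have h1 : φ ⁅y, w⁆ = (⁅y, w⁆)⁻¹ := hφ _ hd
    rw [map_commutatorElement, ← hse, hφ w hwE, hbil, hew, mul_one, hpow, hinvr, inv_pow] at h1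
    rw [pow_one]
    exact inv_injective h1
  have hk2 := horder (hexp _ (hZE (hyc y w)))
    (fun h => hw (commutatorElement_eq_one_iff_mul_comm.1 h)) k 1 hcomm
  omega
where
  normal_of_index_eq_three {G : Type u} [Group G] [Finite G] {E : Subgroup G}
      (_hn : Nat.card G = 3 ^ 3) (_h : E.index = 3) (hle : gam G 1 ≤ center G) (hZE : center G ≤ E) :
      E.Normal := by
    refine ⟨fun a ha g => ?_⟩
    rw [show g * a * g⁻¹ = ⁅g, a⁆ * a by simp [commutatorElement_def, mul_assoc]]
    exact mul_mem (hZE (hle (commutator_mem_commutator (mem_top g) (mem_top a)))) ha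

theorem sylow_of_core_free (hG : IsPGroup 3 G) (hn : Nat.card G = 3 ^ 4) (K : Subgroup G)
    (hK : Nat.card K = 3 ^ 2) (hcore : K ⊓ center G = ⊥) :
    ∃ W : Sylow 3 (Equiv.Perm (Fin 9)), Nonempty (G ≃* ↥(W : Subgroup (Equiv.Perm (Fin 9)))) := by
  haveI := hG.isNilpotent
  have hidx : Nat.card (G ⧸ K) = 9 := by
    have := K.card_mul_index
    rw [hK, hn] at this
    rw [← Subgroup.index]
    omega
  let e : (G ⧸ K) ≃ Fin 9 := (Finite.equivFin (G ⧸ K)).trans (finCongr hidx)
  let ι : G →* Equiv.Perm (Fin 9) := e.permCongrHom.toMonoidHom.comp (MulAction.toPermHom G (G ⧸ K))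
  have hker : (MulAction.toPermHom G (G ⧸ K)).ker = ⊥ := by
    rw [← normalCore_eq_ker]
    by_contra h
    refine CfsgLib.PGroupBasic.inf_center_ne_bot K.normalCore h (le_bot_iff.1 ?_)
    exact hcore ▸ inf_le_inf_right _ K.normalCore_le
  have hι : Function.Injective ι := by
    intro a b h
    have h1 := e.permCongrHom.injective (a₁ := MulAction.toPermHom G (G ⧸ K) a)
      (a₂ := MulAction.toPermHom G (G ⧸ K) b) h
    exact (MonoidHom.ker_eq_bot_iff _).1 hker h1
  have hr : IsPGroup 3 ι.range := hG.of_surjective _ ι.rangeRestrict_surjective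
  obtain ⟨W, hW⟩ := hr.exists_le_sylow
  have hrc : Nat.card ι.range = 3 ^ 4 := by
    rw [← hn]; exact (Nat.card_congr (MonoidHom.ofInjective hι).toEquiv).symm
  have hWeq : ι.range = (W : Subgroup (Equiv.Perm (Fin 9))) := by
    refine eq_of_le_of_card_ge hW ?_
    obtain ⟨i, hi⟩ := IsPGroup.iff_card.1 W.2
    rw [hi, hrc]
    refine Nat.pow_le_pow_right (by norm_num) ?_
    by_contra hlt
    have h1 : Nat.card W ∣ Nat.card (Equiv.Perm (Fin 9)) := card_subgroup_dvd_card _
    rw [hi, Nat.card_eq_fintype_card, Fintype.card_perm, Fintype.card_fin] at h1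
    have h2 : 3 ^ 5 ∣ Nat.factorial 9 := (pow_dvd_pow 3 (show 5 ≤ i by omega)).trans h1
    norm_num [Nat.factorial] at h2
  exact ⟨W, ⟨(MonoidHom.ofInjective hι).trans (MulEquiv.subgroupCongr hWeq)⟩⟩

theorem four_cases (S : Slim 3 x) (hn : Nat.card G = 3 ^ 4) :
    (∀ H : Subgroup G, ∃ U : Finset G, U.card ≤ 2 ∧ closure (U : Set G) = H) ∨
    ∃ W : Sylow 3 (Equiv.Perm (Fin 9)), Nonempty (G ≃* ↥(W : Subgroup (Equiv.Perm (Fin 9)))) := by
  classical
  haveI := S.pgroup.isNilpotent
  have hlt : 3 ^ 2 < Nat.card G := by rw [hn]; norm_num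
  have hZcard : Nat.card (center G ⊓ gam G 1 : Subgroup G) ≤ 3 := S.inf_eq hlt ▸ S.card_inf_le hlt
  by_cases hex : ∃ K : Subgroup G, Nat.card K = 3 ^ 2 ∧ K ⊓ center G = ⊥
  · obtain ⟨K, h1, h2⟩ := hex
    exact Or.inr (sylow_of_core_free S.pgroup hn K h1 h2)
  push Not at hex
  left
  have hZ : Nat.card (center G) ≤ 3 := by
    -- the centre is proper in the centralizer of `x`
    obtain ⟨j, hj⟩ := IsPGroup.iff_card.1 (S.pgroup.to_subgroup (center G))
    rw [hj]
    refine Nat.le_trans (Nat.pow_le_pow_right (by norm_num) ?_) (pow_one 3).le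
    by_contra hcon
    have h1 := eq_of_le_of_card_ge (center_le_centralizer ({x} : Set G))
      (by rw [hj, (S.index_eq hlt.le).2.1]; exact Nat.pow_le_pow_right (by norm_num) (by omega))
    have hxZ : x ∈ center G := h1.ge (mem_centralizer_singleton_iff.2 rfl)
    have h5 : centralizer ({x} : Set G) = ⊤ := eq_top_iff.2 fun g _ =>
      mem_centralizer_singleton_iff.2 (mem_center_iff.1 hxZ g)
    have := S.card_le
    rw [h5, card_top] at this
    omega
  have grow : ∀ {A B : Subgroup G}, A < B → 3 * Nat.card A ≤ Nat.card B := by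
    intro A B hAB
    obtain ⟨i, hi⟩ := IsPGroup.iff_card.1 (S.pgroup.to_subgroup A)
    obtain ⟨j, hj⟩ := IsPGroup.iff_card.1 (S.pgroup.to_subgroup B)
    have h : Nat.card A < Nat.card B :=
      lt_of_le_of_ne (card_le_of_le hAB.le) fun h => hAB.ne (eq_of_le_of_card_ge hAB.le h.ge)
    rw [hi, hj] at h ⊢
    rw [Nat.pow_lt_pow_iff_right (by norm_num)] at h
    calc 3 * 3 ^ i = 3 ^ (i + 1) := (pow_succ' 3 i).symm
      _ ≤ 3 ^ j := Nat.pow_le_pow_right (by norm_num) (by omega)
  intro H
  rcases eq_or_ne H ⊥ with rfl | hHne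
  · exact ⟨∅, by simp, by simp⟩
  obtain ⟨a, haH, ha⟩ := (bot_or_exists_ne_one H).resolve_left hHne
  by_cases hHa : H = zpowers a
  · exact ⟨{a}, by simp, by rw [Finset.coe_singleton, ← zpowers_eq_closure, hHa]⟩
  by_cases hHtop : H = ⊤
  · subst hHtop
    obtain ⟨y, hy⟩ : ∃ y : G, y ∉ zpowers x ⊔ gam G 1 := by
      by_contra hcon
      push Not at hcon
      have h1 : zpowers x = ⊤ := eq_top_of_sup_gam S.pgroup (eq_top_iff.2 fun g _ => hcon g)
      have h2 : centralizer ({x} : Set G) = ⊤ := eq_top_iff.2 fun g _ =>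
        mem_centralizer_singleton_iff.2 (by
          obtain ⟨i, rfl⟩ := mem_zpowers_iff.1 (h1 ▸ mem_top g : g ∈ zpowers x)
          exact ((Commute.refl x).zpow_left i).eq)
      have := S.card_le
      rw [h2, card_top] at this
      omega
    refine ⟨{x, y}, Finset.card_le_two, eq_top_of_sup_gam S.pgroup (eq_top_of_card_eq _ ?_)⟩
    have s1 : gam G 1 < zpowers x ⊔ gam G 1 :=
      lt_of_le_of_ne le_sup_right fun he => S.not_mem hlt (he ▸ mem_sup_left (mem_zpowers x))
    have hle : zpowers x ⊔ gam G 1 ≤ closure (({x, y} : Finset G) : Set G) ⊔ gam G 1 :=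
      sup_le_sup_right ((zpowers_le).2 (subset_closure (by simp))) _
    have s2 : zpowers x ⊔ gam G 1 < closure (({x, y} : Finset G) : Set G) ⊔ gam G 1 :=
      lt_of_le_of_ne hle fun he => hy (he ▸ mem_sup_left (subset_closure (by simp)))
    have g1 := grow s1
    have g2 := grow s2
    have g3 := (gam G 1).card_mul_index
    rw [(S.index_eq hlt.le).1, hn] at g3
    have g4 := Subgroup.card_le_card_group (closure (({x, y} : Finset G) : Set G) ⊔ gam G 1)
    omega
  have hH27 : Nat.card H ≤ 27 := by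
    have h1 := grow (lt_top_iff_ne_top.2 hHtop)
    rw [card_top, hn] at h1
    omega
  have ha1 : (zpowers a) < H := lt_of_le_of_ne ((zpowers_le).2 haH) (Ne.symm hHa)
  obtain ⟨b, hbH, hb⟩ := SetLike.not_le_iff_exists.1 (not_le_of_gt ha1)
  -- if two elements do not suffice there is a complement to the centre
  by_contra hcon
  push Not at hcon
  have hpair : ∀ c d : G, c ∈ H → d ∈ H → closure (({c, d} : Finset G) : Set G) < H := by
    intro c d hc hd
    refine lt_of_le_of_ne ?_ (hcon {c, d} Finset.card_le_two)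
    rw [closure_le]; intro u hu; simp at hu; rcases hu with rfl | rfl <;> assumption
  have hcyc : ∀ c ∈ H, c ^ 3 = 1 := by
    intro c hc
    by_contra hc3
    have hlt1 : zpowers c < H := lt_of_le_of_ne ((zpowers_le).2 hc) fun h =>
      hcon {c} (by simp) (by rw [Finset.coe_singleton, ← zpowers_eq_closure, h])
    obtain ⟨d, hdH, hd⟩ := SetLike.not_le_iff_exists.1 (not_le_of_gt hlt1)
    have hle : zpowers c ≤ closure (({c, d} : Finset G) : Set G) :=
      (zpowers_le).2 (subset_closure (by simp))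
    have s2 : zpowers c < closure (({c, d} : Finset G) : Set G) :=
      lt_of_le_of_ne hle fun h => hd (h ▸ subset_closure (by simp))
    have g1 := grow s2
    have g2 := grow (hpair c d hc hdH)
    have g3 : 9 ≤ Nat.card (zpowers c) := by
      rw [Nat.card_zpowers]
      obtain ⟨i, hi⟩ := IsPGroup.iff_orderOf.1 S.pgroup c
      rw [hi]
      have : 2 ≤ i := by
        by_contra h
        refine hc3 (orderOf_dvd_iff_pow_eq_one.1 ?_)
        rw [hi]
        exact (pow_dvd_pow 3 (show i ≤ 1 by omega)).trans (by norm_num)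
      calc 9 = 3 ^ 2 := by norm_num
        _ ≤ 3 ^ i := Nat.pow_le_pow_right (by norm_num) this
    omega
  have habel : ∀ c ∈ H, ∀ d ∈ H, c * d = d * c := by
    intro c hc d hd
    by_contra hne
    have hc1 : c ≠ 1 := fun h => hne (by rw [h]; simp)
    have hKle := hpair c d hc hd
    set L := closure (({c, d} : Finset G) : Set G) with hL
    have g2 := grow hKle
    obtain ⟨j, hj⟩ := IsPGroup.iff_card.1 (S.pgroup.to_subgroup L)
    have hj2 : j ≤ 2 := by
      by_contra h
      have : 3 ^ 3 ≤ 3 ^ j := Nat.pow_le_pow_right (by norm_num) (by omega)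
      omega
    have hcL : c ∈ L := subset_closure (by simp)
    have hdL : d ∈ L := subset_closure (by simp)
    rcases (show j = 0 ∨ j = 1 ∨ j = 2 by omega) with rfl | rfl | rfl
    · rw [pow_zero] at hj
      rw [eq_bot_of_card_eq _ hj, mem_bot] at hcL
      exact hc1 hcL
    · haveI : IsCyclic L := isCyclic_of_prime_card (p := 3) (by rw [hj, pow_one])
      exact hne (congrArg Subtype.val ((IsCyclic.commGroup (α := L)).mul_comm ⟨c, hcL⟩ ⟨d, hdL⟩))
    · exact hne (congrArg Subtype.val
        (IsPGroup.commutative_of_card_eq_prime_sq hj ⟨c, hcL⟩ ⟨d, hdL⟩))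
  have hnotZ : ¬ H ≤ center G := by
    intro h
    have h1 := grow ha1
    have h2 : 3 ≤ Nat.card (zpowers a) := by
      rw [Nat.card_zpowers, orderOf_eq_prime (hcyc a haH) ha]
    have := (card_le_of_le h).trans hZ
    omega
  obtain ⟨u, huH, huZ⟩ := SetLike.not_le_iff_exists.1 hnotZ
  have hu1 : u ≠ 1 := fun h => huZ (h ▸ one_mem _)
  have hucard : Nat.card (zpowers u) = 3 := by
    rw [Nat.card_zpowers, orderOf_eq_prime (hcyc u huH) hu1]
  have hnotsup : ¬ H ≤ zpowers u ⊔ center G := by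
    intro h
    have hle2 : Nat.card (zpowers u ⊔ center G : Subgroup G) ≤ 9 := by
      rw [← SetLike.coe_sort_coe, Subgroup.mul_normal]
      calc Nat.card ↥((zpowers u : Set G) * (center G : Set G))
          ≤ Nat.card (zpowers u) * Nat.card (center G) := Set.natCard_mul_le
        _ ≤ 3 * 3 := Nat.mul_le_mul hucard.le hZ
    obtain ⟨v, hvH, hv⟩ := SetLike.not_le_iff_exists.1 (not_le_of_gt
      (lt_of_le_of_ne ((zpowers_le).2 huH) fun hh => hcon {u} (by simp)
        (by rw [Finset.coe_singleton, ← zpowers_eq_closure, hh]) : zpowers u < H))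
    have g1 := grow (hpair u v huH hvH)
    have hle' : zpowers u ≤ closure (({u, v} : Finset G) : Set G) :=
      (zpowers_le).2 (subset_closure (by simp))
    have g0 := grow (lt_of_le_of_ne hle' fun hh => hv (hh ▸ subset_closure (by simp)))
    have := (card_le_of_le h).trans hle2
    omega
  obtain ⟨v, hvH, hv⟩ := SetLike.not_le_iff_exists.1 hnotsup
  set K := closure (({u, v} : Finset G) : Set G) with hK
  have g1 := grow (hpair u v huH hvH)
  have huK : zpowers u ≤ K := (zpowers_le).2 (subset_closure (by simp))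
  have s1 : zpowers u < K := lt_of_le_of_ne huK fun h =>
    hv (mem_sup_left (h ▸ subset_closure (by simp)))
  have g2 := grow s1
  have hKcard : Nat.card K = 3 ^ 2 := by rw [← hK] at g1; rw [show (3:ℕ) ^ 2 = 9 from rfl]; omega
  refine hex K hKcard (le_bot_iff.1 fun z hz => mem_bot.2 ?_)
  by_contra hz1
  -- otherwise the centre and `u` already give `v`
  have hzu : zpowers u < zpowers u ⊔ zpowers z := lt_of_le_of_ne le_sup_left fun h => by
    have hzmem : z ∈ zpowers u := h ▸ mem_sup_right (mem_zpowers z)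
    obtain ⟨i, rfl : u ^ i = z⟩ := mem_powers_iff_mem_zpowers.2 hzmem
    have hi : ¬ 3 ∣ i := by
      rintro ⟨l, rfl⟩
      exact hz1 (by rw [pow_mul, hcyc u huH, one_pow])
    apply huZ
    have h4 : u ^ (i % 3) ∈ center G := by
      have : u ^ i = u ^ (i % 3) := by
        conv_lhs => rw [← Nat.div_add_mod i 3, pow_add, pow_mul, hcyc u huH, one_pow, one_mul]
      rw [← this]; exact hz.2
    rcases (show i % 3 = 1 ∨ i % 3 = 2 by omega) with h8 | h8 <;> rw [h8] at h4
    · simpa using h4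
    · have := inv_mem h4
      rwa [show (u ^ 2)⁻¹ = u from inv_eq_of_mul_eq_one_right (by rw [← pow_succ, hcyc u huH])] at this
  have hsub : zpowers u ⊔ zpowers z ≤ K := sup_le huK ((zpowers_le).2 hz.1)
  have g3 := grow hzu
  have heq := eq_of_le_of_card_ge hsub (by rw [hKcard]; omega)
  exact hv ((sup_le_sup_left ((zpowers_le).2 hz.2) _ : zpowers u ⊔ zpowers z ≤ zpowers u ⊔ center G)
    (heq.ge (subset_closure (by simp))))

end CfsgLib.PearlMC
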