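import Cfsg.Agent.PearlMC.Power

/-!
Tools for slim `3`-groups: commutation between layers of the lower central series.
-/

set_option autoImplicit false
set_option linter.style.haveILetI false

namespace CfsgLib.PearlMC

open Subgroup CfsgLib.FGSA.PolySeq
open scoped commutatorElement

universe u

variable {G : Type u} [Group G] [Finite G] {p : ℕ} [hp : Fact p.Prime] {x : G}

omit [Finite G] in
theorem gam_comm [Group.IsNilpotent G] (a b : ℕ) : ⁅gam G a, gam G b⁆ ≤ gam G (a + b + 1) := by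
  obtain ⟨c, hc⟩ := Subgroup.nilpotent_iff_lowerCentralSeries.1 ‹Group.IsNilpotent G›
  exact ((lcsFilt G c hc).comm (a + 1) (b + 1)).trans (gam_anti (by omega))

omit [Finite G] in
theorem comm_mem_gam_of [Group.IsNilpotent G] {a b : ℕ} {u v : G} (hu : u ∈ gam G a)
    (hv : v ∈ gam G b) {m : ℕ} (hm : m ≤ a + b + 1) : ⁅u, v⁆ ∈ gam G m :=
  gam_anti hm (gam_comm a b (commutator_mem_commutator hu hv))

/-- A nontrivial element of a layer generates it. -/
theorem Slim.layer_gen (S : Slim p x) {n : ℕ} (hn : Nat.card G = p ^ n) {k : ℕ} (hk : 1 ≤ k)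
    (hkn : k + 2 ≤ n) {u v : G} (hu : u ∈ gam G k) (hu' : u ∉ gam G (k + 1)) (hv : v ∈ gam G k) :
    ∃ i : ℕ, ∃ w ∈ gam G (k + 1), v = u ^ i * w := by
  have hle' : zpowers u ⊔ gam G (k + 1) ≤ gam G k :=
    sup_le ((zpowers_le).2 hu) (gam_anti (Nat.le_succ k))
  have hlt : gam G (k + 1) < zpowers u ⊔ gam G (k + 1) :=
    lt_of_le_of_ne le_sup_right fun he => hu' (he ▸ mem_sup_left (mem_zpowers u))
  have h1 := index_strictAnti hlt
  rw [S.index_gam hn (k + 1) (by omega) (by omega)] at h1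
  obtain ⟨j, hj⟩ := S.pgroup.index (zpowers u ⊔ gam G (k + 1))
  rw [hj, Nat.pow_lt_pow_iff_right hp.out.one_lt] at h1
  have h3 := index_dvd_of_le hle'
  rw [S.index_gam hn k hk (by omega), hj, Nat.pow_dvd_pow_iff_le_right hp.out.one_lt] at h3
  have heq : zpowers u ⊔ gam G (k + 1) = gam G k := by
    refine hle'.eq_or_lt.resolve_right fun hlt' => ?_
    have h4 := index_strictAnti hlt'
    rw [S.index_gam hn k hk (by omega), hj, Nat.pow_lt_pow_iff_right hp.out.one_lt] at h4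
    omega
  obtain ⟨s, hs, w, hw, rfl⟩ := mem_sup_of_normal_right.1 (heq ▸ hv : v ∈ zpowers u ⊔ gam G (k + 1))
  obtain ⟨i, rfl⟩ := mem_powers_iff_mem_zpowers.2 hs
  exact ⟨i, w, hw, rfl⟩

theorem Slim.exists_layer (S : Slim p x) {n : ℕ} (hn : Nat.card G = p ^ n) {k : ℕ} (hk : 1 ≤ k)
    (hkn : k + 2 ≤ n) : ∃ u ∈ gam G k, u ∉ gam G (k + 1) := by
  by_contra hcon
  push Not at hcon
  have e : gam G k = gam G (k + 1) := le_antisymm hcon (gam_anti (Nat.le_succ k))
  have h1 := S.index_gam hn k hk (by omega)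
  rw [e, S.index_gam hn (k + 1) (by omega) (by omega)] at h1
  have := Nat.pow_right_injective hp.out.two_le h1
  omega

/-- Modulo `γ (k + 2)` commutation with an element of `γ k` is multiplicative. -/
theorem comm_mul_congr {k : ℕ} {u v y : G} (hy : y ∈ gam G k) :
    ((⁅u * v, y⁆ : G) : G ⧸ gam G (k + 2)) =
      ((⁅u, y⁆ : G) : G ⧸ gam G (k + 2)) * ((⁅v, y⁆ : G) : G ⧸ gam G (k + 2)) := by
  have hc : ⁅v, y⁆ ∈ gam G (k + 1) := by
    rw [← commutatorElement_inv]; exact inv_mem (comm_mem_gam_succ hy)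
  have hcen : ∀ g : G, ((g : G ⧸ gam G (k + 2)) * ((⁅v, y⁆ : G) : G ⧸ gam G (k + 2))) =
      ((⁅v, y⁆ : G) : G ⧸ gam G (k + 2)) * (g : G ⧸ gam G (k + 2)) := by
    intro g
    rw [← QuotientGroup.mk_mul, ← QuotientGroup.mk_mul, QuotientGroup.eq]
    have h : ⁅(⁅v, y⁆)⁻¹, g⁻¹⁆ ∈ gam G (k + 2) := comm_mem_gam_succ (inv_mem hc)
    convert h using 1
    simp [commutatorElement_def, mul_assoc]
  have h0 : ⁅u * v, y⁆ = u * ⁅v, y⁆ * u⁻¹ * ⁅u, y⁆ := by simp [commutatorElement_def, mul_assoc]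
  rw [h0, QuotientGroup.mk_mul, QuotientGroup.mk_mul, QuotientGroup.mk_mul, hcen u,
    QuotientGroup.mk_inv, mul_inv_cancel_right, ← hcen]

/-- Elements annihilating a layer. -/
def annih (G : Type u) [Group G] [Finite G] (k : ℕ) : Subgroup G where
  carrier := {g | ∀ y ∈ gam G k, ⁅g, y⁆ ∈ gam G (k + 2)}
  one_mem' := fun y _ => by simp
  mul_mem' := fun {u v} hu hv y hy => by
    rw [← QuotientGroup.eq_one_iff, comm_mul_congr hy,
      (QuotientGroup.eq_one_iff _).2 (hu y hy), (QuotientGroup.eq_one_iff _).2 (hv y hy), one_mul]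
  inv_mem' := fun {u} hu y hy => by
    have h := comm_mul_congr (u := u⁻¹) (v := u) hy
    rw [inv_mul_cancel, (QuotientGroup.eq_one_iff _).2 (hu y hy), mul_one] at h
    rw [← QuotientGroup.eq_one_iff, ← h, commutatorElement_one_left]
    rfl

theorem mem_annih {k : ℕ} {g : G} : g ∈ annih G k ↔ ∀ y ∈ gam G k, ⁅g, y⁆ ∈ gam G (k + 2) :=
  Iff.rfl

theorem gam_one_le_annih [Group.IsNilpotent G] (k : ℕ) : gam G 1 ≤ annih G k := fun _ hu =>
  mem_annih.2 fun _ hy => comm_mem_gam_of hu hy (by omega)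

omit [Finite G] in
theorem normal_of_gam_le {A : Subgroup G} (h : gam G 1 ≤ A) : A.Normal := by
  refine ⟨fun a ha g => ?_⟩
  rw [show g * a * g⁻¹ = ⁅g, a⁆ * a by simp [commutatorElement_def, mul_assoc]]
  exact mul_mem (h (commutator_mem_commutator (mem_top g) (mem_top a))) ha

/-- The subgroup above `γ 1` not containing `x` is complemented by `x`. -/
theorem Slim.sup_eq_top (S : Slim p x) (hsq : p ^ 2 < Nat.card G) {a : G}
    (ha : a ∉ zpowers x ⊔ gam G 1) :
    zpowers x ⊔ (zpowers a ⊔ gam G 1) = ⊤ := by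
  have h1 : gam G 1 < zpowers x ⊔ gam G 1 :=
    lt_of_le_of_ne le_sup_right fun he => S.not_mem hsq (he ▸ mem_sup_left (mem_zpowers x))
  have hle : zpowers x ⊔ gam G 1 ≤ zpowers x ⊔ (zpowers a ⊔ gam G 1) :=
    sup_le_sup_left le_sup_right _
  have h2 : zpowers x ⊔ gam G 1 < zpowers x ⊔ (zpowers a ⊔ gam G 1) :=
    lt_of_le_of_ne hle fun he => ha (he ▸ mem_sup_right (mem_sup_left (mem_zpowers a)))
  have h3 := index_strictAnti h2
  have h4 := index_strictAnti h1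
  rw [(S.index_eq hsq.le).1] at h4
  obtain ⟨j, hj⟩ := S.pgroup.index (zpowers x ⊔ (zpowers a ⊔ gam G 1))
  obtain ⟨i, hi⟩ := S.pgroup.index (zpowers x ⊔ gam G 1)
  rw [hj, hi, Nat.pow_lt_pow_iff_right hp.out.one_lt] at h3
  rw [hi, Nat.pow_lt_pow_iff_right hp.out.one_lt] at h4
  exact index_eq_one.1 (by rw [hj, show j = 0 by omega, pow_zero])

/-- Elements of `H` in the derived subgroup lie in `K` once `K` realises all their levels. -/
theorem Slim.le_of_levels (S : Slim p x) {n : ℕ} (hn : Nat.card G = p ^ n) (h2 : 2 ≤ n)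
    {H K : Subgroup G} (hKH : K ≤ H)
    (hlev : ∀ k, 1 ≤ k → k + 2 ≤ n → (∃ u ∈ H, u ∈ gam G k ∧ u ∉ gam G (k + 1)) →
      ∃ v ∈ K, v ∈ gam G k ∧ v ∉ gam G (k + 1)) :
    H ⊓ gam G 1 ≤ K := by
  suffices h : ∀ d k, 1 ≤ k → n ≤ k + 1 + d → H ⊓ gam G k ≤ K from h n 1 le_rfl (by omega)
  intro d
  induction d with
  | zero =>
    intro k _ hd
    rw [S.gam_eq_bot hn h2 (by omega), inf_bot_eq]
    exact bot_le
  | succ d ih =>
    intro k hk hd u hu
    rcases Nat.lt_or_ge (k + 1) n with hkn | hkn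
    swap
    · exact ih k hk (by omega) hu
    by_cases hu' : u ∈ gam G (k + 1)
    · exact ih (k + 1) (by omega) (by omega) ⟨hu.1, hu'⟩
    obtain ⟨v, hvK, hv, hv'⟩ := hlev k hk (by omega) ⟨u, hu.1, hu.2, hu'⟩
    obtain ⟨i, w, hw, rfl⟩ := S.layer_gen hn hk (by omega) hv hv' hu.2
    refine mul_mem (pow_mem hvK i) (ih (k + 1) (by omega) (by omega) ⟨?_, hw⟩)
    simpa using mul_mem (inv_mem (pow_mem (hKH hvK) i)) hu.1

end CfsgLib.PearlMC
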